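import Groth.Agent.FEtStein.Fibre
import Groth.Agent.Coherent.CohBC.PushStructure
import Groth.Agent.Coherent.CohBC.ClosedFibreKernel

/-!
# The closed fibre of the functions of a proper flat scheme over a Noetherian local ring
-/

set_option autoImplicit false
set_option linter.style.haveILetI false
set_option backward.isDefEq.respectTransparency.types false
set_option backward.isDefEq.respectTransparency false
universe u

open CategoryTheory CategoryTheory.Limits AlgebraicGeometry Opposite TopologicalSpace
open Groth.Agent.Coherent Groth.Agent.Coherent.CohBC Groth.Agent.PicLib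

namespace Groth.Agent.FEtStein

/-- The inverse image of a function as a section of the pulled back structure module. -/
theorem structureIso_pullSec {X Y : Scheme.{u}} (g : X ⟶ Y) (U : Y.Opens) (b : Γ(Coh.structureModule Y, U)) :
    ((PicLoc.pullbackStructureIso g).hom.app (g ⁻¹ᵁ U)) (pullSec g (L := Coh.structureModule Y) b) =
      (show Γ(Coh.structureModule X, g ⁻¹ᵁ U) from g.app U (show Γ(Y, U) from b)) := by
  have h := SheafOfModules.pullbackPushforwardAdjunction_homEquiv_pullbackObjUnitToUnit g.toRingCatSheafHom
  rw [Adjunction.homEquiv_unit] at h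
  exact congrArg (fun m => (m.val.app (op U)) b) h

/-- The functions on a fibre with geometrically reduced structure are étale. -/
theorem etale_fiber_global {X Y : Scheme.{u}} (f : X ⟶ Y) [IsProper f] (y : Y)
    (h : GeometricallyReduced (f.fiberToSpecResidueField y)) :
    Algebra.Etale (Y.residueField y) Γ(f.fiber y, ⊤) := by
  haveI : IsProper (f.fiberToSpecResidueField y) := MorphismProperty.pullback_snd _ _ ‹IsProper f›
  exact RingHom.etale_algebraMap.1 (etale_global (Y.residueField y) (f.fiberToSpecResidueField y))

variable (A : Type u) [CommRing A] [IsLocalRing A] [IsNoetherianRing A] (X : Scheme.{u})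
  [X.Over (Spec (CommRingCat.of A))] [IsProper (X ↘ Spec (CommRingCat.of A))] [Flat (X ↘ Spec (CommRingCat.of A))]

/-- Functions on the closed fibre are the quotient of the functions by the maximal ideal. -/
theorem closedFibre_quotient
    (het : Algebra.Etale ((Spec (CommRingCat.of A)).residueField (IsLocalRing.closedPoint A))
      Γ((X ↘ Spec (CommRingCat.of A)).fiber (IsLocalRing.closedPoint A), ⊤)) :
    Function.Surjective ((X ↘ Spec (CommRingCat.of A)).fiberι (IsLocalRing.closedPoint A)).appTop ∧
      ∀ b, ((X ↘ Spec (CommRingCat.of A)).fiberι (IsLocalRing.closedPoint A)).appTop b = 0 →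
        b ∈ (IsLocalRing.maximalIdeal A).map (toΓ A (⊤ : X.Opens)) := by
  let g := (X ↘ Spec (CommRingCat.of A)).fiberι (IsLocalRing.closedPoint A)
  have hlf := isFinLocFree_structureModule X
  have hfl := isFlatOver_of_isFinLocFree (X ↘ Spec (CommRingCat.of A)) hlf
  obtain ⟨D⟩ := nonempty_perfData (Coh.structureModule X) (isCoh_of_isFinLocFree hlf) hfl
  have hT := preservesEpi_zero_of_etale D het
  let θ := (PicLoc.pullbackStructureIso g).hom.app (g ⁻¹ᵁ ⊤)
  have hθ : Function.Bijective θ := by
    haveI : IsIso θ := inferInstance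
    exact ConcreteCategory.bijective_of_isIso θ
  refine ⟨fun z => ?_, fun b hb => ?_⟩
  · obtain ⟨z', hz'⟩ := hθ.2 z
    obtain ⟨b, rfl⟩ := (preservesEpi_zero_iff_surjective_pullSec D).1 hT z'
    exact ⟨b, (structureIso_pullSec g ⊤ b).symm.trans hz'⟩
  · have h0 : pullSec g (L := Coh.structureModule X) (U := ⊤) (show Γ(Coh.structureModule X, ⊤) from b) = 0 :=
      hθ.1 (((structureIso_pullSec g ⊤ b).trans hb).trans (map_zero θ.hom).symm)
    have hm := mem_smul_top_of_pullSec_eq_zero D hfl hT (show Γ(Coh.structureModule X, ⊤) from b) h0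
    refine Submodule.smul_induction_on
      (p := fun w => (show Γ(X, ⊤) from w) ∈ (IsLocalRing.maximalIdeal A).map (toΓ A (⊤ : X.Opens))) hm
      (fun a ha n _ => ?_) fun w w' hw hw' => Ideal.add_mem _ hw hw'
    show toΓ A (⊤ : X.Opens) a * (show Γ(X, ⊤) from n) ∈ _
    exact Ideal.mul_mem_right _ _ (Ideal.mem_map_of_mem _ ha)

end Groth.Agent.FEtStein
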