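import Groth.Agent.FEtStein.Homotopy

/-!
# Morphisms of finite étale covers which are isomorphisms over one point of a connected base
-/

set_option autoImplicit false
set_option linter.style.haveILetI false
set_option backward.isDefEq.respectTransparency.types false
set_option backward.isDefEq.respectTransparency false
universe u

open CategoryTheory CategoryTheory.Limits AlgebraicGeometry TopologicalSpace

namespace Groth.Agent.FEtStein

/-- An open and closed map to a connected space sends a nonempty clopen set onto everything. -/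
theorem mem_image_of_isClopen {T S : Scheme.{u}} (w : T ⟶ S) [ConnectedSpace S]
    (ho : IsOpenMap w) (hc : IsClosedMap w) {D : Set T} (hD : IsClopen D) (hne : D.Nonempty) (s : S) :
    s ∈ w '' D := by
  rw [IsClopen.eq_univ ⟨hc _ hD.isClosed, ho _ hD.isOpen⟩ (hne.image _)]
  trivial

/-- A finite étale morphism over a connected base, open and closed, which is an isomorphism over one point
is an isomorphism. -/
theorem isIso_of_fibre {C V S : Scheme.{u}} (q : C ⟶ V) [IsFinite q] [Etale q] (v : V ⟶ S) [ConnectedSpace S]
    (ho : IsOpenMap v) (hc : IsClosedMap v) (p : S) {Va : Scheme.{u}} (ρ : Va ⟶ V)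
    (hρ : v ⁻¹' {p} ⊆ Set.range ρ) [IsIso (pullback.snd q ρ)] : IsIso q := by
  haveI : Surjective q := by
    refine ⟨fun y => by_contra fun hy => ?_⟩
    have hD : IsClopen (Set.range q)ᶜ :=
      IsClopen.compl ⟨q.isClosedMap.isClosed_range, q.isOpenMap.isOpen_range⟩
    obtain ⟨z, hz, hzp⟩ := mem_image_of_isClopen v ho hc hD ⟨y, hy⟩ p
    obtain ⟨w, rfl⟩ := hρ hzp
    obtain ⟨c, hc'⟩ := (pullback.snd q ρ).surjective w
    exact hz ⟨pullback.fst q ρ c, by rw [← Scheme.Hom.comp_apply, pullback.condition, Scheme.Hom.comp_apply, hc']⟩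
  haveI : UniversallyInjective q := by
    rw [UniversallyInjective.iff_diagonal]
    refine ⟨fun d => by_contra fun hd => ?_⟩
    let Δ := pullback.diagonal q
    haveI : IsFinite (pullback.fst q q) := MorphismProperty.pullback_fst _ _ ‹IsFinite q›
    haveI : Etale (pullback.fst q q) := MorphismProperty.pullback_fst _ _ ‹Etale q›
    have hD : IsClopen (Set.range Δ)ᶜ :=
      IsClopen.compl ⟨Δ.isClosedEmbedding.isClosed_range, Δ.isOpenEmbedding.isOpen_range⟩
    obtain ⟨z, hz, hzp⟩ := mem_image_of_isClopen (pullback.fst q q ≫ q ≫ v)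
      (ho.comp (q.isOpenMap.comp (pullback.fst q q).isOpenMap))
      (hc.comp (q.isClosedMap.comp (pullback.fst q q).isClosedMap)) hD ⟨d, hd⟩ p
    obtain ⟨w, hw⟩ := hρ (show (pullback.fst q q ≫ q) z ∈ v ⁻¹' {p} from hzp)
    obtain ⟨x, hx, -⟩ := Scheme.Pullback.exists_preimage_pullback (f := pullback.fst q q ≫ q) (g := ρ) z w hw.symm
    let a := pullback.fst (pullback.fst q q ≫ q) ρ
    let b := pullback.snd (pullback.fst q q ≫ q) ρ
    have hab : a ≫ pullback.fst q q ≫ q = b ≫ ρ := pullback.condition
    have e : a ≫ pullback.fst q q = a ≫ pullback.snd q q := by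
      have h1 := pullback.lift_fst (f := q) (g := ρ) (a ≫ pullback.fst q q) b (by rw [Category.assoc, hab])
      have h2 := pullback.lift_fst (f := q) (g := ρ) (a ≫ pullback.snd q q) b
        (by rw [Category.assoc, ← pullback.condition, hab])
      rw [← h1, ← h2]
      congr 1
      rw [← cancel_mono (pullback.snd q ρ)]
      simp
    refine hz ⟨(a ≫ pullback.fst q q) x, ?_⟩
    have e2 : a = (a ≫ pullback.fst q q) ≫ Δ := pullback.hom_ext (by simp [Δ]) (by simp [Δ, e])
    rw [← hx]
    exact ((congrArg (fun k : pullback (pullback.fst q q ≫ q) ρ ⟶ pullback q q => k x) e2).trans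
      (Scheme.Hom.comp_apply _ _ _)).symm
  haveI := Groth.Agent.FEtLib.isOpenImmersion_of_etale_universallyInjective q
  haveI : Epi q.base := (TopCat.epi_iff_surjective _).mpr q.surjective
  exact IsOpenImmersion.isIso _

/-- Over a separably closed field, connected implies geometrically connected. -/
theorem geometricallyConnected_of_isSepClosed {k : Type u} [Field k] [IsSepClosed k] {X : Scheme.{u}}
    (f : X ⟶ Spec (CommRingCat.of k)) [ConnectedSpace X] : GeometricallyConnected f := by
  let L := SeparableClosure k
  have hb : Function.Bijective (algebraMap k L) :=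
    ⟨(algebraMap k L).injective, IsSepClosed.algebraMap_surjective k L⟩
  haveI : IsIso (Spec.map (CommRingCat.ofHom (algebraMap k L))) := by
    haveI : IsIso (CommRingCat.ofHom (algebraMap k L)) :=
      (RingEquiv.ofBijective (algebraMap k L) hb).toCommRingCatIso.isIso_hom
    infer_instance
  haveI : ConnectedSpace ↥(pullback f (VarietyLib.sK k (SeparableClosure k))) := by
    haveI : IsIso (pullback.fst f (Spec.map (CommRingCat.ofHom (algebraMap k L)))) := inferInstance
    exact (pullback.fst f (Spec.map (CommRingCat.ofHom (algebraMap k L)))).homeomorph.connectedSpace_iff.mpr inferInstance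
  exact VarietyLib.geometricallyConnected_of_connectedSpace k f

end Groth.Agent.FEtStein
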