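import Groth.Agent.FEtStein.AlgClosedExt
import Groth.Agent.Props12.KerReduced
import Mathlib.RingTheory.FiniteType

/-!
# Base change of finite étale covers of proper schemes between algebraically closed fields
-/

set_option autoImplicit false
set_option linter.style.haveILetI false
set_option backward.isDefEq.respectTransparency.types false
set_option backward.isDefEq.respectTransparency false
universe u

open CategoryTheory CategoryTheory.Limits AlgebraicGeometry TopologicalSpace Opposite
open Groth.Agent.FEtQuot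

namespace Groth.Agent.FEtStein

variable (k : Type u) [Field k] {K : Type u} [Field K] [Algebra k K]

local notation "ξK'" => Spec.map (CommRingCat.ofHom (algebraMap k K))

/-- The diagram of finitely generated subalgebras. -/
noncomputable def fgDiag : Finset K ⥤ CommRingCat.{u} where
  obj s := CommRingCat.of (Algebra.adjoin k (s : Set K))
  map {s t} h := CommRingCat.ofHom (Subalgebra.inclusion
    (Algebra.adjoin_mono (Finset.coe_subset.mpr (leOfHom h)))).toRingHom
  map_id _ := by ext x; rfl
  map_comp _ _ := by ext x; rfl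

/-- Its cocone. -/
noncomputable def fgCocone : Cocone (fgDiag (K := K) k) where
  pt := CommRingCat.of K
  ι := { app := fun s => CommRingCat.ofHom (Algebra.adjoin k (s : Set K)).val.toRingHom
         naturality := fun _ _ _ => by ext x; rfl }

theorem nonempty_isColimit_fgCocone : Nonempty (IsColimit (fgCocone (K := K) k)) := by
  classical
  haveI : ReflectsColimit (fgDiag (K := K) k) (forget CommRingCat.{u}) := reflectsColimit_of_reflectsIsomorphisms _ _
  refine ⟨isColimitOfReflects (forget CommRingCat.{u}) (Types.FilteredColimit.isColimitOf _ _ ?_ ?_)⟩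
  · intro x
    exact ⟨{x}, ⟨x, Algebra.subset_adjoin (Finset.mem_coe.mpr (Finset.mem_singleton_self x))⟩, rfl⟩
  · intro i j xi xj h
    exact ⟨i ∪ j, homOfLE Finset.subset_union_left, homOfLE Finset.subset_union_right, Subtype.ext h⟩

/-- `Spec` of a finitely generated subalgebra over `k`. -/
noncomputable abbrev bsA (s : Finset K) : Spec ((fgDiag k).obj s) ⟶ Spec (CommRingCat.of k) :=
  Spec.map (CommRingCat.ofHom (algebraMap k (Algebra.adjoin k (s : Set K))))

theorem map_bsA {s t : Finset K} (h : s ⟶ t) : Spec.map ((fgDiag k).map h) ≫ bsA k s = bsA k t := by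
  rw [bsA, bsA, ← Spec.map_comp]
  rfl

theorem ι_bsA (s : Finset K) : Spec.map ((fgCocone k).ι.app s) ≫ bsA k s = ξK' := by
  rw [bsA, ← Spec.map_comp]
  rfl

/-- A finitely generated subalgebra has a rational point. -/
theorem exists_rational_point [IsAlgClosed k] (s : Finset K) :
    ∃ a : Spec (CommRingCat.of k) ⟶ Spec ((fgDiag k).obj s), a ≫ bsA k s = 𝟙 _ := by
  let A := Algebra.adjoin k (s : Set K)
  obtain ⟨m, hm⟩ := Ideal.exists_maximal A
  letI := Ideal.Quotient.field m
  haveI : Algebra.FiniteType k A := (Subalgebra.fg_iff_finiteType _).mp (Subalgebra.fg_adjoin_finset s)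
  haveI : Algebra.FiniteType k (A ⧸ m) :=
    .of_surjective (Ideal.Quotient.mkₐ k m) Ideal.Quotient.mk_surjective
  haveI : Module.Finite k (A ⧸ m) := finite_of_finite_type_of_isJacobsonRing k (A ⧸ m)
  have hb : Function.Bijective (algebraMap k (A ⧸ m)) := IsAlgClosed.algebraMap_bijective_of_isIntegral
  let ψ : A →ₐ[k] k := (AlgEquiv.ofBijective (Algebra.ofId k _) hb).symm.toAlgHom.comp (Ideal.Quotient.mkₐ k m)
  refine ⟨Spec.map (CommRingCat.ofHom ψ.toRingHom), ?_⟩
  rw [bsA, ← Spec.map_comp, ← Spec.map_id]
  congr 1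
  ext r
  exact ψ.commutes r

variable {k} {X : Scheme.{u}} (f : X ⟶ Spec (CommRingCat.of k))

/-- The base changes of `X` to the finitely generated subalgebras. -/
noncomputable def fgX : (Finset K)ᵒᵖ ⥤ Scheme.{u} where
  obj s := pullback f (bsA k s.unop)
  map {s t} h := pullback.lift (pullback.fst _ _) (pullback.snd _ _ ≫ Spec.map ((fgDiag k).map h.unop)) (by
    rw [Category.assoc, map_bsA, pullback.condition])
  map_id s := by
    apply pullback.hom_ext <;> simp
  map_comp {s t r} g h := by
    apply pullback.hom_ext <;> simp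

/-- The cone with tip `X_K`. -/
noncomputable def fgCone : Cone (fgX (K := K) f) where
  pt := pullback f (ξK')
  π :=
    { app := fun s => pullback.lift (pullback.fst _ _) (pullback.snd _ _ ≫ Spec.map ((fgCocone k).ι.app s.unop))
        (by rw [Category.assoc, ι_bsA, pullback.condition])
      naturality := fun s t h => by
        dsimp [fgX]
        apply pullback.hom_ext
        · simp
        · simp only [Category.id_comp, Category.assoc, pullback.lift_snd, pullback.lift_snd_assoc]
          rw [← Spec.map_comp, (fgCocone k).w h.unop] }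

theorem fgπ_fst (s : (Finset K)ᵒᵖ) : (fgCone f).π.app s ≫ pullback.fst f (bsA k s.unop) = pullback.fst f (ξK') :=
  pullback.lift_fst _ _ _

theorem fgπ_snd (s : (Finset K)ᵒᵖ) : (fgCone f).π.app s ≫ pullback.snd f (bsA k s.unop) =
    pullback.snd f (ξK') ≫ Spec.map ((fgCocone k).ι.app s.unop) :=
  pullback.lift_snd _ _ _

theorem nonempty_isLimit_fgCone : Nonempty (IsLimit (fgCone (K := K) f)) := by
  classical
  obtain ⟨hcol⟩ := nonempty_isColimit_fgCocone (K := K) k
  let h₀ := isLimitOfPreserves Scheme.Spec hcol.op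
  let sD : Cone (fgX (K := K) f) → Cone ((fgDiag k).op ⋙ Scheme.Spec) := fun s =>
    { pt := s.pt
      π :=
        { app := fun i => s.π.app i ≫ pullback.snd f (bsA k i.unop)
          naturality := fun i j h => by
            dsimp
            rw [Category.id_comp, ← s.w h, Category.assoc, Category.assoc]
            exact congrArg (s.π.app i ≫ ·) (pullback.lift_snd _ _ _) } }
  have hfst : ∀ (s : Cone (fgX f)) (i : (Finset K)ᵒᵖ),
      s.π.app i ≫ pullback.fst f (bsA k i.unop) = s.π.app (op ∅) ≫ pullback.fst f (bsA k ∅) := fun s i => by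
    rw [← s.w (homOfLE (Finset.empty_subset i.unop) : (∅ : Finset K) ⟶ i.unop).op, Category.assoc]
    exact congrArg (s.π.app i ≫ ·) (pullback.lift_fst _ _ _).symm
  have hw : ∀ s : Cone (fgX f), (s.π.app (op ∅) ≫ pullback.fst f (bsA k ∅)) ≫ f = h₀.lift (sD s) ≫ ξK' := fun s => by
    rw [← ι_bsA k ∅, ← Category.assoc (h₀.lift (sD s)),
      show h₀.lift (sD s) ≫ Spec.map ((fgCocone k).ι.app ∅) = s.π.app (op ∅) ≫ pullback.snd f (bsA k ∅) from h₀.fac (sD s) (op ∅),
      Category.assoc, pullback.condition, Category.assoc]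
  refine ⟨{ lift := fun s => pullback.lift _ _ (hw s), fac := fun s i => ?_, uniq := fun s m hm => ?_ }⟩
  · apply pullback.hom_ext
    · rw [Category.assoc, fgπ_fst, pullback.lift_fst]
      exact (hfst s i).symm
    · rw [Category.assoc, fgπ_snd, pullback.lift_snd_assoc]
      exact h₀.fac (sD s) i
  · apply pullback.hom_ext
    · rw [pullback.lift_fst, ← hm (op ∅), Category.assoc]
      exact congrArg (m ≫ ·) (fgπ_fst f (op ∅)).symm
    · rw [pullback.lift_snd]
      refine h₀.hom_ext fun i => ?_
      rw [h₀.fac]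
      show (m ≫ pullback.snd f (ξK')) ≫ Spec.map ((fgCocone k).ι.app i.unop) = s.π.app i ≫ pullback.snd _ _
      rw [← hm i, Category.assoc, Category.assoc, fgπ_snd]

instance isAffineHom_fgX {s t : (Finset K)ᵒᵖ} (h : s ⟶ t) : IsAffineHom ((fgX f).map h) := by
  haveI : ∀ i : (Finset K)ᵒᵖ, IsAffineHom (pullback.fst f (bsA k i.unop)) := fun i =>
    MorphismProperty.pullback_fst _ _ inferInstance
  have e : (fgX f).map h ≫ pullback.fst f (bsA k t.unop) = pullback.fst f (bsA k s.unop) := pullback.lift_fst _ _ _
  exact MorphismProperty.of_postcomp (W := @IsAffineHom) (W' := @IsSeparated) _ (pullback.fst f (bsA k t.unop))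
    inferInstance (by rw [e]; infer_instance)

instance compactSpace_fgX [CompactSpace X] (s : (Finset K)ᵒᵖ) : CompactSpace ((fgX f).obj s) :=
  QuasiCompact.compactSpace_of_compactSpace (pullback.fst f (bsA k s.unop))

instance quasiSeparatedSpace_fgX [QuasiSeparatedSpace X] (s : (Finset K)ᵒᵖ) : QuasiSeparatedSpace ((fgX f).obj s) :=
  quasiSeparatedSpace_of_quasiSeparated (pullback.fst f (bsA k s.unop))

/-- Composition of restriction functors. -/
noncomputable def restrictCompIso {A B C : Scheme.{u}} (g : A ⟶ B) (h : B ⟶ C) (i : A ⟶ C) (w : g ≫ h = i) :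
    FEt.restrict i ≅ FEt.restrict h ⋙ FEt.restrict g :=
  (MorphismProperty.Over.pullbackCongr w.symm : FEt.restrict i ≅ FEt.restrict (g ≫ h)) ≪≫
    MorphismProperty.Over.pullbackComp g h

/-- Essential surjectivity for reduced schemes. -/
theorem essSurj_of_isReduced [IsAlgClosed k] [IsAlgClosed K] [IsProper f] [AlgebraicGeometry.IsReduced X] :
    (FEt.restrict (pullback.fst f (ξK'))).EssSurj := by
  haveI : CompactSpace X := QuasiCompact.compactSpace_of_compactSpace f
  haveI : QuasiSeparatedSpace X := quasiSeparatedSpace_of_quasiSeparated f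
  refine ⟨fun W => ?_⟩
  obtain ⟨hc⟩ := nonempty_isLimit_fgCone (K := K) f
  haveI : IsFinite (show W.left ⟶ (fgCone (K := K) f).pt from W.hom) := W.prop.1
  haveI : Etale (show W.left ⟶ (fgCone (K := K) f).pt from W.hom) := W.prop.2
  obtain ⟨⟨s⟩, T, w₀, q, _, _, sq⟩ :=
    FEtQuot.FieldLimit.exists_stage_finEt hc (show W.left ⟶ (fgCone (K := K) f).pt from W.hom)
  let W₀ : FEt.Cat (pullback f (bsA k s)) := MorphismProperty.Over.mk ⊤ w₀ ⟨‹_›, ‹_›⟩
  let π : pullback f (ξK') ⟶ pullback f (bsA k s) := (fgCone f).π.app (op s)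
  let e₀ : (FEt.restrict π).obj W₀ ≅ W := MorphismProperty.Over.isoMk sq.isoPullback.symm sq.isoPullback_inv_snd
  haveI : ConnectedSpace ↥(Spec ((fgDiag k).obj s)) :=
    inferInstanceAs (ConnectedSpace (PrimeSpectrum (Algebra.adjoin k (s : Set K))))
  obtain ⟨a, ha⟩ := exists_rational_point k s
  obtain ⟨S', s', _, _, ⟨e⟩⟩ := exists_iso_restrict f (bsA k s) a ha W₀
  obtain ⟨η, hη⟩ := exists_point s' (Spec.map ((fgCocone (K := K) k).ι.app s))
  let jK : pullback f (ξK') ⟶ pullback (pullback.snd f (bsA k s)) s' :=
    pullback.lift π (pullback.snd f (ξK') ≫ η) (by rw [Category.assoc, hη]; exact fgπ_snd f (op s))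
  have h₁ : jK ≫ pullback.fst _ _ = π := pullback.lift_fst _ _ _
  exact ⟨_, ⟨(restrictCompIso π (pullback.fst f (bsA k s)) (pullback.fst f (ξK')) (fgπ_fst f (op s))).app _ ≪≫
    (restrictCompIso jK (pullback.fst (pullback.snd f (bsA k s)) s') π h₁).app _ ≪≫
    (FEt.restrict jK).mapIso e.symm ≪≫
    ((restrictCompIso jK (pullback.fst (pullback.snd f (bsA k s)) s') π h₁).app _).symm ≪≫ e₀⟩⟩

/-- Base change between separably closed fields is fully faithful on finite étale covers. -/
theorem restrict_full_faithful_sepClosed [IsSepClosed k] :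
    (FEt.restrict (pullback.fst f (ξK'))).Full ∧ (FEt.restrict (pullback.fst f (ξK'))).Faithful := by
  haveI : Surjective (ξK') := FBaseLib.surjective_to_field _
  haveI : Flat (ξK') := inferInstance
  haveI : ConnectedSpace ↥(Spec (CommRingCat.of K)) := inferInstanceAs (ConnectedSpace (PrimeSpectrum K))
  haveI : GeometricallyConnected (ξK') := geometricallyConnected_of_isSepClosed _
  haveI : Flat (pullback.fst f (ξK')) := MorphismProperty.pullback_fst _ _ ‹Flat (ξK')›
  haveI : Surjective (pullback.fst f (ξK')) := MorphismProperty.pullback_fst _ _ ‹Surjective (ξK')›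
  haveI : QuasiCompact (pullback.fst f (ξK')) := MorphismProperty.pullback_fst _ _ inferInstance
  exact restrict_full_faithful_of_geometricallyConnected (pullback.fst f (ξK'))

/-- Base change between algebraically closed fields is an equivalence on finite étale covers of a proper scheme. -/
theorem restrict_isEquivalence_algClosed [IsAlgClosed k] [IsAlgClosed K] [IsProper f] :
    (FEt.restrict (pullback.fst f (ξK'))).IsEquivalence := by
  obtain ⟨_, _⟩ := restrict_full_faithful_sepClosed (K := K) f
  refine { essSurj := ⟨fun W => ?_⟩ }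
  let I : X.IdealSheafData := Scheme.IdealSheafData.vanishingIdeal ⊤
  let r := I.subschemeι
  haveI : AlgebraicGeometry.IsReduced I.subscheme := Props12.isReduced_subscheme_vanishingIdeal _
  haveI : Surjective r := by
    refine ⟨fun x => ?_⟩
    have hr : Set.range r = Set.univ := by
      rw [Scheme.IdealSheafData.range_subschemeι]
      exact Set.eq_univ_of_univ_subset (SetLike.coe_subset_coe.mpr
        (Scheme.IdealSheafData.le_support_iff_le_vanishingIdeal.mpr le_rfl : (⊤ : TopologicalSpace.Closeds X) ≤ _))
    exact Set.range_eq_univ.1 hr x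
  let rK : pullback (r ≫ f) (ξK') ⟶ pullback f (ξK') :=
    pullback.lift (pullback.fst _ _ ≫ r) (pullback.snd _ _) (by rw [Category.assoc]; exact pullback.condition)
  have hrK : IsPullback (pullback.fst (r ≫ f) (ξK')) rK r (pullback.fst f (ξK')) := by
    refine IsPullback.of_bot ?_ (pullback.lift_fst _ _ _).symm (IsPullback.of_hasPullback f (ξK'))
    rw [pullback.lift_snd]
    exact IsPullback.of_hasPullback (r ≫ f) (ξK')
  haveI : IsClosedImmersion rK := MorphismProperty.of_isPullback hrK (inferInstanceAs (IsClosedImmersion I.subschemeι))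
  haveI : Surjective rK := MorphismProperty.of_isPullback hrK ‹Surjective r›
  haveI := Groth.Agent.S0289.result r
  haveI := Groth.Agent.S0289.result rK
  haveI := essSurj_of_isReduced (K := K) (r ≫ f)
  let V := (FEt.restrict (pullback.fst (r ≫ f) (ξK'))).objPreimage ((FEt.restrict rK).obj W)
  refine ⟨(FEt.restrict r).objPreimage V, ⟨(FEt.restrict rK).preimageIso ?_⟩⟩
  exact ((restrictCompIso rK (pullback.fst f (ξK')) (pullback.fst (r ≫ f) (ξK') ≫ r) hrK.w.symm).app _).symm ≪≫
    (restrictCompIso (pullback.fst (r ≫ f) (ξK')) r (pullback.fst (r ≫ f) (ξK') ≫ r) rfl).app _ ≪≫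
    (FEt.restrict (pullback.fst (r ≫ f) (ξK'))).mapIso ((FEt.restrict r).objObjPreimageIso V) ≪≫
    (FEt.restrict (pullback.fst (r ≫ f) (ξK'))).objObjPreimageIso _

/-- Base change between separably closed fields is an equivalence on finite étale covers of a proper scheme. -/
theorem restrict_isEquivalence_sepClosed [IsSepClosed k] [IsSepClosed K] [IsProper f] :
    (FEt.restrict (pullback.fst f (ξK'))).IsEquivalence := by
  obtain ⟨_, _⟩ := restrict_full_faithful_sepClosed (K := K) f
  let Ω := AlgebraicClosure K
  let kb := AlgebraicClosure k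
  let φ : kb →ₐ[k] Ω := IsAlgClosed.lift
  letI : Algebra kb Ω := φ.toRingHom.toAlgebra
  let ξb := Spec.map (CommRingCat.ofHom (algebraMap k kb))
  let ξΩ := Spec.map (CommRingCat.ofHom (algebraMap K Ω))
  let ξ' := Spec.map (CommRingCat.ofHom (algebraMap kb Ω))
  have hw : ξ' ≫ ξb = ξΩ ≫ ξK' := by
    simp only [ξ', ξb, ξΩ, ← Spec.map_comp, ← CommRingCat.ofHom_comp]
    exact congrArg (fun r => Spec.map (CommRingCat.ofHom r))
      ((φ.comp_algebraMap).trans (IsScalarTower.algebraMap_eq k K Ω))
  let pb := pullback.fst f ξb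
  let fb := pullback.snd f ξb
  let pK := pullback.fst f (ξK')
  let fK := pullback.snd f (ξK')
  haveI : IsProper fb := MorphismProperty.pullback_snd _ _ ‹IsProper f›
  haveI : IsPurelyInseparable k kb := inferInstance
  haveI : UniversallyInjective ξb := H8Lim.universallyInjective_algSpec k kb
  haveI : Surjective ξb := FBaseLib.surjective_to_field _
  haveI : IsIntegralHom ξb := IsIntegralHom.SpecMap_iff.mpr
    (show (algebraMap k kb).IsIntegral from fun x => Algebra.IsIntegral.isIntegral x)
  haveI : IsIntegralHom pb := MorphismProperty.pullback_fst _ _ ‹IsIntegralHom ξb›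
  haveI : UniversallyInjective pb := MorphismProperty.pullback_fst _ _ ‹UniversallyInjective ξb›
  haveI : Surjective pb := MorphismProperty.pullback_fst _ _ ‹Surjective ξb›
  haveI := Groth.Agent.S0289.result pb
  haveI := restrict_isEquivalence_algClosed (K := Ω) fb
  let q := pullback.fst fK ξΩ
  obtain ⟨_, _⟩ := restrict_full_faithful_sepClosed (K := Ω) fK
  let j : pullback fK ξΩ ⟶ pullback fb ξ' :=
    pullback.lift (pullback.lift (q ≫ pK) (pullback.snd fK ξΩ ≫ ξ')
      (by rw [Category.assoc, Category.assoc, hw, ← pullback.condition_assoc, pullback.condition]))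
      (pullback.snd fK ξΩ) (pullback.lift_snd _ _ _)
  refine { essSurj := ⟨fun W => ?_⟩ }
  let p' := pullback.fst fb ξ'
  have h : (j ≫ p') ≫ pb = q ≫ pK := by simp [j, p', pb]
  haveI : IsIso j := by
    refine ⟨pullback.lift (pullback.lift (p' ≫ pb) (pullback.snd fb ξ' ≫ ξΩ) ?_) (pullback.snd fb ξ') ?_, ?_, ?_⟩
    · rw [Category.assoc, Category.assoc, ← hw, ← pullback.condition_assoc, pullback.condition]
    · exact pullback.lift_snd _ _ _
    · apply pullback.hom_ext
      · apply pullback.hom_ext
        · simp [j, p', pb, q, pK]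
        · simp [j, fK, pullback.condition]
      · simp [j]
    · apply pullback.hom_ext
      · apply pullback.hom_ext
        · simp [j, p', pb, q, pK]
        · simp [j, fb, p', pullback.condition]
      · simp [j]
  haveI := Groth.Agent.S0289.result j
  let Z := (FEt.restrict j).objPreimage ((FEt.restrict q).obj W)
  let U := (FEt.restrict pb).objPreimage ((FEt.restrict p').objPreimage Z)
  refine ⟨U, ⟨(FEt.restrict q).preimageIso ?_⟩⟩
  exact ((restrictCompIso q pK (q ≫ pK) rfl).app _).symm ≪≫
    (restrictCompIso (j ≫ p') pb (q ≫ pK) h).app _ ≪≫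
    (restrictCompIso j p' (j ≫ p') rfl).app _ ≪≫
    (FEt.restrict j).mapIso ((FEt.restrict p').mapIso ((FEt.restrict pb).objObjPreimageIso _) ≪≫
      (FEt.restrict p').objObjPreimageIso Z) ≪≫ (FEt.restrict j).objObjPreimageIso _

end Groth.Agent.FEtStein
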