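import Groth.Agent.FEtStein.CoupleFF
import Groth.Agent.FEtStein.AlgClosedEquiv
import Groth.Agent.FEtFF.HenselPair
import Groth.Agent.Et18.ProperClopen.Main
import Groth.Agent.VarietyLib.GeomComponents
import Groth.Agent.S5117

/-!
# Proper schemes over henselian pairs: restriction of covers to the closed part is fully faithful
-/

set_option autoImplicit false
set_option linter.style.haveILetI false
set_option backward.isDefEq.respectTransparency.types false
set_option backward.isDefEq.respectTransparency false
universe u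

open CategoryTheory CategoryTheory.Limits AlgebraicGeometry TopologicalSpace

namespace Groth.Agent.FEtStein

section pair

variable {A : Type u} [CommRing A] (I : Ideal A) [HenselianRing A I] {X : Scheme.{u}}
  (f : X ⟶ Spec (CommRingCat.of A)) [IsProper f]

/-- A proper scheme over a henselian pair gives a henselian couple. -/
theorem couple_of_proper {X₀ : Scheme.{u}} (i : X₀ ⟶ X) [IsClosedImmersion i]
    (hi : Set.range i = f ⁻¹' PrimeSpectrum.zeroLocus (I : Set A))
    (Y : Scheme.{u}) (g : Y ⟶ X) (hg : IsFinite g) (V : Set ↥(pullback g i)) (hV : IsClopen V) :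
    ∃! U : Set ↥Y, IsClopen U ∧ (pullback.fst g i).base ⁻¹' U = V := by
  let j := pullback.fst g i
  have hj : Set.range j = (g ≫ f) ⁻¹' PrimeSpectrum.zeroLocus (I : Set A) := by
    rw [Scheme.Pullback.range_fst, hi]; rfl
  have hjinj : Function.Injective j := j.isClosedEmbedding.injective
  obtain ⟨D, hD, hVD, hVD'⟩ := Groth.Agent.Et18.ProperClopen.exists_clopen_lift I (g ≫ f) (j '' V) (j '' Vᶜ)
    (j.isClosedEmbedding.isClosedMap _ hV.isClosed) (j.isClosedEmbedding.isClosedMap _ hV.compl.isClosed)
    (Set.disjoint_image_of_injective hjinj disjoint_compl_right)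
    (by rw [← Set.image_union, Set.union_compl_self, Set.image_univ, hj])
  have hDV : j ⁻¹' D = V := by
    ext w
    refine ⟨fun hw => by_contra fun hwV => hVD' ⟨w, hwV, rfl⟩ hw, fun hw => hVD ⟨w, hw, rfl⟩⟩
  refine ⟨D, ⟨hD, hDV⟩, fun U ⟨hU, hUV⟩ => ?_⟩
  have key : ∀ E : Set Y, IsClopen E → j ⁻¹' E = ∅ → E = ∅ := fun E hE h => by
    by_contra hne
    obtain ⟨p, ⟨y, hy, rfl⟩, hp⟩ := Groth.Agent.Et18.ProperClopen.exists_mem_zeroLocus_of_isClosed I
      ((g ≫ f).isClosedMap _ hE.isClosed) ((Set.nonempty_iff_ne_empty.mpr hne).image _)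
    obtain ⟨w, rfl⟩ := (Set.ext_iff.mp hj y).mpr hp
    exact Set.eq_empty_iff_forall_notMem.mp h w hy
  have h1 := key (U \ D) (hU.diff hD) (by
    rw [Set.preimage_diff, show j ⁻¹' U = V from hUV, hDV, Set.diff_self])
  have h2 := key (D \ U) (hD.diff hU) (by
    rw [Set.preimage_diff, show j ⁻¹' U = V from hUV, hDV, Set.diff_self])
  exact Set.Subset.antisymm (Set.diff_eq_empty.mp h1) (Set.diff_eq_empty.mp h2)

/-- The range of the closed part. -/
theorem range_fst_quot :
    Set.range (pullback.fst f (Spec.map (CommRingCat.ofHom (Ideal.Quotient.mk I)))) =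
      f ⁻¹' PrimeSpectrum.zeroLocus (I : Set A) := by
  rw [Scheme.Pullback.range_fst]
  congr 1
  exact (range_comap_of_surjective _ _ Ideal.Quotient.mk_surjective).trans (by rw [Ideal.mk_ker])

/-- Restriction to the closed part is fully faithful. -/
theorem restrict_full_faithful_henselian :
    (FEt.restrict (pullback.fst f (Spec.map (CommRingCat.ofHom (Ideal.Quotient.mk I))))).Full ∧
      (FEt.restrict (pullback.fst f (Spec.map (CommRingCat.ofHom (Ideal.Quotient.mk I))))).Faithful := by
  haveI : IsClosedImmersion (Spec.map (CommRingCat.ofHom (Ideal.Quotient.mk I))) :=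
    IsClosedImmersion.spec_of_surjective _ Ideal.Quotient.mk_surjective
  exact restrict_full_faithful_of_couple _ (couple_of_proper I f _ (range_fst_quot I f))

end pair

section localRing

variable {A : Type u} [CommRing A] [IsLocalRing A] [HenselianRing A (IsLocalRing.maximalIdeal A)]
  {X : Scheme.{u}} (f : X ⟶ Spec (CommRingCat.of A)) [IsProper f]
  [ConnectedSpace ↥(pullback f (Spec.map (CommRingCat.ofHom
    ((algebraMap (IsLocalRing.ResidueField A) (AlgebraicClosure (IsLocalRing.ResidueField A))).comp
      (IsLocalRing.residue A)))))]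

local notation "κ'" => IsLocalRing.ResidueField A
local notation "r" => Spec.map (CommRingCat.ofHom (IsLocalRing.residue A))

/-- The closed fibre is geometrically connected. -/
theorem connectedSpace_closedFibre :
    ConnectedSpace ↥(pullback (pullback.snd f r) (Spec.map (CommRingCat.ofHom (algebraMap κ' (AlgebraicClosure κ'))))) := by
  let e := pullbackLeftPullbackSndIso f r (Spec.map (CommRingCat.ofHom (algebraMap κ' (AlgebraicClosure κ'))))
  haveI : ConnectedSpace ↥(pullback f (Spec.map (CommRingCat.ofHom (algebraMap κ' (AlgebraicClosure κ'))) ≫ r)) := by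
    rw [← Spec.map_comp, ← CommRingCat.ofHom_comp]; infer_instance
  exact e.inv.surjective.connectedSpace e.inv.continuous

theorem restrict_residue_isEquivalence : (FEt.restrict r).IsEquivalence :=
  FEtFF.HenselPair.restrict_isEquivalence (IsLocalRing.maximalIdeal A)

theorem restrict_fst_full_faithful :
    (FEt.restrict (pullback.fst f r)).Full ∧ (FEt.restrict (pullback.fst f r)).Faithful :=
  restrict_full_faithful_henselian (IsLocalRing.maximalIdeal A) f

/-- Pulling back covers of a henselian local base to a proper scheme with connected geometric closed fibre is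
fully faithful. -/
theorem restrict_full_faithful_of_connected_closedFibre : (FEt.restrict f).Full ∧ (FEt.restrict f).Faithful := by
  haveI := connectedSpace_closedFibre f
  haveI := restrict_residue_isEquivalence (A := A)
  obtain ⟨_, _⟩ := restrict_fst_full_faithful f
  haveI : ConnectedSpace ↥(pullback (pullback.snd f r) (Groth.Agent.FEtQuot.ξK κ')) := connectedSpace_closedFibre f
  obtain ⟨_, _⟩ := Groth.Agent.FEtQuot.restrict_full_faithful (pullback.snd f r)
  let e : FEt.restrict r ⋙ FEt.restrict (pullback.snd f r) ≅ FEt.restrict f ⋙ FEt.restrict (pullback.fst f r) :=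
    (restrictCompIso _ _ _ pullback.condition.symm).symm ≪≫ restrictCompIso _ _ _ rfl
  haveI : (FEt.restrict f ⋙ FEt.restrict (pullback.fst f r)).Full := Functor.Full.of_iso e
  haveI : (FEt.restrict f ⋙ FEt.restrict (pullback.fst f r)).Faithful := Functor.Faithful.of_iso e
  exact ⟨Functor.Full.of_comp_faithful _ (FEt.restrict (pullback.fst f r)),
    Functor.Faithful.of_comp _ (FEt.restrict (pullback.fst f r))⟩

/-- A connected cover with a section over the geometric closed fibre comes from the base. -/
theorem exists_iso_restrict_of_section_closedFibre (X' : FEt.Cat X) [ConnectedSpace X'.left]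
    (σ : pullback f (Spec.map (CommRingCat.ofHom ((algebraMap κ' (AlgebraicClosure κ')).comp (IsLocalRing.residue A)))) ⟶ X'.left)
    (hσ : σ ≫ X'.hom = pullback.fst _ _) :
    ∃ T : FEt.Cat (Spec (CommRingCat.of A)), Nonempty ((FEt.restrict f).obj T ≅ X') := by
  haveI := connectedSpace_closedFibre f
  haveI := restrict_residue_isEquivalence (A := A)
  obtain ⟨_, _⟩ := restrict_fst_full_faithful f
  haveI : IsClosedImmersion r := IsClosedImmersion.spec_of_surjective _ IsLocalRing.residue_surjective
  let g := pullback.snd f r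
  haveI : IsProper g := MorphismProperty.pullback_snd _ _ ‹IsProper f›
  haveI : CompactSpace ↥(pullback f r) := QuasiCompact.compactSpace_of_compactSpace g
  haveI : QuasiSeparatedSpace ↥(pullback f r) := quasiSeparatedSpace_of_quasiSeparated g
  let Y := (FEt.restrict (pullback.fst f r)).obj X'
  let ξ₁ := Spec.map (CommRingCat.ofHom (algebraMap κ' (AlgebraicClosure κ')))
  let e := pullbackLeftPullbackSndIso f r ξ₁
  have hξ : ξ₁ ≫ r = Spec.map (CommRingCat.ofHom ((algebraMap κ' (AlgebraicClosure κ')).comp (IsLocalRing.residue A))) := by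
    rw [← Spec.map_comp, ← CommRingCat.ofHom_comp]
  let σ₀ : pullback g ξ₁ ⟶ X'.left := e.hom ≫ (pullback.congrHom rfl hξ).hom ≫ σ
  have hσ₀ : σ₀ ≫ X'.hom = pullback.fst g ξ₁ ≫ pullback.fst f r := by
    simp only [σ₀, Category.assoc, hσ]
    simp [e, g]
  let σY : pullback g ξ₁ ⟶ Y.left := pullback.lift σ₀ (pullback.fst g ξ₁) hσ₀
  haveI hne : Nonempty Y.left := Nonempty.map σY inferInstance
  haveI : ConnectedSpace Y.left := by
    haveI : IsFinite X'.hom := X'.prop.1
    let i := pullback.fst f r
    haveI : IsClosedImmersion i := inferInstance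
    refine connectedSpace_iff_clopen.mpr ⟨hne, fun C hC => ?_⟩
    obtain ⟨U, ⟨hU, hUC⟩, -⟩ := couple_of_proper (IsLocalRing.maximalIdeal A) f i
      (range_fst_quot (IsLocalRing.maximalIdeal A) f) X'.left X'.hom inferInstance C hC
    rcases isClopen_iff.mp hU with h | h
    · exact Or.inl (hUC.symm.trans (by rw [h]; rfl))
    · exact Or.inr (hUC.symm.trans (by rw [h]; rfl))
  obtain ⟨S', ⟨ψ⟩⟩ := Groth.Agent.S5117.result κ' g Y σY (pullback.lift_snd _ _ _)
  refine ⟨(FEt.restrict r).objPreimage S', ⟨(FEt.restrict (pullback.fst f r)).preimageIso ?_⟩⟩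
  exact ((restrictCompIso (pullback.fst f r) f _ rfl).app _).symm ≪≫
    (restrictCompIso (pullback.snd f r) r _ pullback.condition.symm).app _ ≪≫
    (FEt.restrict (pullback.snd f r)).mapIso ((FEt.restrict r).objObjPreimageIso S') ≪≫ ψ

end localRing

end Groth.Agent.FEtStein
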