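import Groth.Agent.FEtStein.FormalApprox
import Groth.Agent.FEtStein.HenselFF
import Groth.Agent.H8Lim.NoetherianModel
import Groth.Agent.H8Lim.ApproxClosed
import Groth.Agent.H8Lim.ProperStage
import Groth.Agent.CAlgH.HenselianColimit

/-!
# Proper base change for finite étale covers over henselian pairs
-/

set_option autoImplicit false
set_option linter.style.haveILetI false
set_option backward.isDefEq.respectTransparency.types false
set_option backward.isDefEq.respectTransparency false
universe u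

open CategoryTheory CategoryTheory.Limits AlgebraicGeometry TopologicalSpace Opposite
open Groth.Agent.FEtStein.PullDiag

namespace Groth.Agent.FEtStein

theorem exists_cover_henselian' {R : Type u} [CommRing R] (J : Ideal R) {X : Scheme.{u}}
    (g : X ⟶ Spec (CommRingCat.of R)) [IsProper g] (hR : CAlg.IsGRing R) {A : Type u} [CommRing A] [Algebra R A]
    (I : Ideal A) [HenselianRing A I] (K : Ideal R) (hK : K = J ^ (0 + 1)) (hJ : K ≤ I.comap (algebraMap R A))
    (V : FEt.Cat (pullback g (Spec.map (CommRingCat.ofHom (Ideal.Quotient.mk K)))))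
    (h : Spec.map (CommRingCat.ofHom (Ideal.quotientMap I (algebraMap R A) hJ)) ≫
        Spec.map (CommRingCat.ofHom (Ideal.Quotient.mk K)) =
      Spec.map (CommRingCat.ofHom (Ideal.Quotient.mk I)) ≫ Spec.map (CommRingCat.ofHom (algebraMap R A))) :
    ∃ W : FEt.Cat (pullback g (Spec.map (CommRingCat.ofHom (algebraMap R A)))),
      Nonempty ((FEt.restrict (pbMap g (Spec.map (CommRingCat.ofHom (Ideal.Quotient.mk I))) rfl)).obj W ≅
        (FEt.restrict (pbMap g _ h)).obj V) := by
  subst hK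
  exact exists_cover_henselian J g hR I hJ V h

theorem isGRing_subalgebra {A : Type u} [CommRing A] (s : Finset A) (t : Finset A) :
    CAlg.IsGRing (SubAlgDiag.sub (H8Lim.fgSub A s) t) := by
  let R₀ := H8Lim.fgSub A s
  let S := SubAlgDiag.sub R₀ t
  haveI : Algebra.FiniteType ℤ R₀ := Algebra.FiniteType.adjoin_of_finite s.finite_toSet
  haveI : Algebra.FiniteType R₀ S := Algebra.FiniteType.adjoin_of_finite t.finite_toSet
  let φ : ULift.{u} ℤ →+* S := (algebraMap R₀ S).comp ((algebraMap ℤ R₀).comp ULift.ringEquiv.toRingHom)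
  letI := φ.toAlgebra
  haveI : Algebra.FiniteType (ULift.{u} ℤ) S := by
    have h1 : (algebraMap R₀ S).FiniteType := RingHom.finiteType_algebraMap.mpr ‹_›
    have h2 : (algebraMap ℤ R₀).FiniteType := RingHom.finiteType_algebraMap.mpr ‹_›
    exact h1.comp (h2.comp (RingHom.FiniteType.of_surjective _ ULift.ringEquiv.surjective))
  exact CAlgH.isGRing_of_finiteType (ULift.{u} ℤ) CAlgH.isGRing_ulift_int S

variable {A : Type u} [CommRing A] (I : Ideal A) [HenselianRing A I]

/-- Covers of the closed part lift: the finitely presented case. -/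
theorem exists_lift_of_fp {X : Scheme.{u}} (f : X ⟶ Spec (CommRingCat.of A)) [IsProper f]
    [LocallyOfFinitePresentation f]
    (V₀ : FEt.Cat (pullback f (Spec.map (CommRingCat.ofHom (Ideal.Quotient.mk I))))) :
    ∃ W : FEt.Cat X, Nonempty
      ((FEt.restrict (pullback.fst f (Spec.map (CommRingCat.ofHom (Ideal.Quotient.mk I))))).obj W ≅ V₀) := by
  obtain ⟨s, X₀, f₀, gX, _, _, sq⟩ := H8Lim.exists_noetherian_model_proper f
  let R₀ := H8Lim.fgSub A s
  let qA := Spec.map (CommRingCat.ofHom (Ideal.Quotient.mk I))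
  let sI := Spec.map (CommRingCat.ofHom ((Ideal.Quotient.mk I).comp (algebraMap R₀ A)))
  have hsI : qA ≫ Spec.map (CommRingCat.ofHom (H8Lim.fgSub A s).val.toRingHom) = sI := by
    rw [← Spec.map_comp]; rfl
  let d : pullback f qA ⟶ pullback f₀ sI := pullback.lift (pullback.fst f qA ≫ gX) (pullback.snd f qA) (by
    rw [Category.assoc, sq.w, ← hsI, ← pullback.condition_assoc])
  let c : pullback f₀ sI ⟶ pullback f qA :=
    pullback.lift (sq.lift (pullback.fst f₀ sI) (pullback.snd f₀ sI ≫ qA) (by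
      rw [Category.assoc, hsI, pullback.condition])) (pullback.snd f₀ sI) (sq.lift_snd _ _ _)
  have hdc : d ≫ c = 𝟙 _ := by
    apply pullback.hom_ext
    · apply sq.hom_ext <;> simp [d, c, pullback.condition]
    · simp [d, c]
  obtain ⟨hlim⟩ := SubAlgDiag.nonempty_isLimit R₀ I
  haveI : ∀ i, CompactSpace ↥((SubAlgDiag.specDiag R₀ I).obj i) := fun i =>
    inferInstanceAs (CompactSpace ↥(Spec _))
  haveI : ∀ i, QuasiSeparatedSpace ↥((SubAlgDiag.specDiag R₀ I).obj i) := fun i =>
    inferInstanceAs (QuasiSeparatedSpace ↥(Spec _))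
  haveI : ∀ i, CompactSpace ↥(pullback f₀ ((SubAlgDiag.str R₀ I).app i)) := fun i =>
    QuasiCompact.compactSpace_of_compactSpace (pullback.snd f₀ _)
  haveI : ∀ i, QuasiSeparatedSpace ↥(pullback f₀ ((SubAlgDiag.str R₀ I).app i)) := fun i =>
    quasiSeparatedSpace_of_quasiSeparated (pullback.snd f₀ _)
  obtain ⟨i, Wt, ⟨et⟩⟩ := PullDiag.exists_cover f₀ (SubAlgDiag.str R₀ I) (SubAlgDiag.specCone R₀ I) sI
    (SubAlgDiag.π_str R₀ I) hlim ((FEt.restrict c).obj V₀)
  let R := SubAlgDiag.sub R₀ i.unop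
  let K : Ideal R := SubAlgDiag.idl R₀ I i.unop
  let r := Spec.map (CommRingCat.ofHom (algebraMap R₀ R))
  let g := pullback.snd f₀ r
  haveI : IsProper g := MorphismProperty.pullback_snd _ _ ‹IsProper f₀›
  let qR := Spec.map (CommRingCat.ofHom (R := R) (S := R ⧸ K) (Ideal.Quotient.mk K))
  have hqr : qR ≫ r = (SubAlgDiag.str R₀ I).app i := by
    rw [← Spec.map_comp]; rfl
  let e : pullback g qR ⟶ pullback f₀ ((SubAlgDiag.str R₀ I).app i) :=
    pullback.lift (pullback.fst g qR ≫ pullback.fst f₀ r) (pullback.snd g qR) (by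
      rw [← hqr, Category.assoc, pullback.condition, ← pullback.condition_assoc])
  let aA := Spec.map (CommRingCat.ofHom (algebraMap R A))
  have hJ : K ≤ I.comap (algebraMap R A) := fun x hx => hx
  let u₀ := Spec.map (CommRingCat.ofHom (R := R ⧸ K) (S := A ⧸ I) (Ideal.quotientMap I (algebraMap R A) hJ))
  have hu : u₀ ≫ qR = qA ≫ aA := by
    rw [← Spec.map_comp, ← Spec.map_comp]; rfl
  obtain ⟨W, ⟨eW⟩⟩ := exists_cover_henselian' K g (isGRing_subalgebra s i.unop) I K
    (by rw [zero_add, pow_one]) hJ ((FEt.restrict e).obj Wt) hu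
  have haA : aA ≫ r = Spec.map (CommRingCat.ofHom (H8Lim.fgSub A s).val.toRingHom) := by
    rw [← Spec.map_comp]; rfl
  let mX : X ⟶ pullback g aA := pullback.lift (pullback.lift gX (f ≫ aA) (by rw [Category.assoc, haA, sq.w])) f
    (pullback.lift_snd _ _ _)
  let m' : pullback f qA ⟶ pullback g (qA ≫ aA) :=
    pullback.lift (pullback.fst f qA ≫ mX ≫ pullback.fst g aA) (pullback.snd f qA) (by
      simp only [mX, g, Category.assoc, pullback.lift_fst, pullback.lift_snd]
      rw [← pullback.condition_assoc])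
  refine ⟨(FEt.restrict mX).obj W, ⟨?_⟩⟩
  refine ((restrictCompIso (pullback.fst f qA) mX _ rfl).app W).symm ≪≫
    (restrictCompIso m' (pbMap g qA rfl) _ ?_).app W ≪≫ (FEt.restrict m').mapIso eW ≪≫
    ((restrictCompIso m' (pbMap g u₀ hu) _ rfl).app _).symm ≪≫
    ((restrictCompIso _ e (d ≫ pbMap f₀ ((SubAlgDiag.specCone R₀ I).π.app i) (SubAlgDiag.π_str R₀ I i)) ?_).app Wt).symm ≪≫
    (restrictCompIso d _ _ rfl).app Wt ≪≫ (FEt.restrict d).mapIso et ≪≫
    ((restrictCompIso d c _ hdc).app V₀).symm ≪≫ restrictIdApp V₀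
  · apply pullback.hom_ext <;> simp [m', mX, pullback.condition]
  · apply pullback.hom_ext
    · simp [m', mX, e, d, g]
    · simp [m', e, d]
      rfl

/-- Covers of the closed part of a proper scheme over a henselian pair lift. -/
theorem restrict_essSurj_henselian {X : Scheme.{u}} (f : X ⟶ Spec (CommRingCat.of A)) [IsProper f] :
    (FEt.restrict (pullback.fst f (Spec.map (CommRingCat.ofHom (Ideal.Quotient.mk I))))).EssSurj := by
  refine ⟨fun V₀ => ?_⟩
  haveI : CompactSpace X := QuasiCompact.compactSpace_of_compactSpace f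
  haveI : QuasiSeparatedSpace X := quasiSeparatedSpace_of_quasiSeparated f
  obtain ⟨ι, _, _, _, D, c, hc, hD, hDcl, hsep, hπcl, ⟨eX⟩⟩ := H8Lim.exists_limit_closedImmersion_transitions f
  let qA := Spec.map (CommRingCat.ofHom (Ideal.Quotient.mk I))
  let D' := D ⋙ Over.forget _
  let c' := (Over.forget _).mapCone c
  let hc' : IsLimit c' := isLimitOfPreserves (Over.forget _) hc
  let t : D' ⟶ (Functor.const ιᵒᵖ).obj (Spec (CommRingCat.of A)) :=
    { app := fun j => (D.obj j).hom
      naturality := fun a b φ => (Over.w (D.map φ)).trans (Category.comp_id _).symm }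
  let s : c'.pt ⟶ Spec (CommRingCat.of A) := c.pt.hom
  have hs : ∀ j, c'.π.app j ≫ t.app j = s := fun j => Over.w (c.π.app j)
  let φ : c'.pt ⟶ X := eX.hom.left
  let φ' : X ⟶ c'.pt := eX.inv.left
  have hφf : φ ≫ f = s := Over.w eX.hom
  have hφ'f : φ' ≫ s = f := Over.w eX.inv
  have hφ : φ' ≫ φ = 𝟙 X := congrArg (fun k : Over.mk f ⟶ Over.mk f => k.left) eX.inv_hom_id
  haveI : ∀ j, CompactSpace ↥(D'.obj j) := fun j => (hD j).2.2.2.1
  haveI : ∀ j, QuasiSeparatedSpace ↥(D'.obj j) := fun j => (hD j).2.2.2.2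
  haveI hDc : ∀ {a b : ιᵒᵖ} (φ : a ⟶ b), IsClosedImmersion (D'.map φ) := fun φ => hDcl _ _ φ
  haveI : ∀ j, IsClosedImmersion (c'.π.app j) := hπcl
  haveI : ∀ {a b : ιᵒᵖ} (φ : a ⟶ b), IsAffineHom (D'.map φ) := fun φ => inferInstance
  haveI : IsClosedImmersion qA := IsClosedImmersion.spec_of_surjective _ Ideal.Quotient.mk_surjective
  haveI : ∀ j, CompactSpace ↥(pullback qA (t.app j)) := fun j =>
    QuasiCompact.compactSpace_of_compactSpace (pullback.snd qA (t.app j))
  haveI : ∀ j, QuasiSeparatedSpace ↥(pullback qA (t.app j)) := fun j =>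
    quasiSeparatedSpace_of_quasiSeparated (pullback.snd qA (t.app j))
  let p : pullback f qA ⟶ pullback qA s := pullback.lift (pullback.snd f qA) (pullback.fst f qA ≫ φ') (by
    rw [Category.assoc, hφ'f, pullback.condition])
  let p' : pullback qA s ⟶ pullback f qA := pullback.lift (pullback.snd qA s ≫ φ) (pullback.fst qA s) (by
    rw [Category.assoc, hφf, pullback.condition])
  have hp : p ≫ p' = 𝟙 _ := by
    apply pullback.hom_ext <;> simp [p, p', hφ]
  obtain ⟨i, Wi, ⟨ei⟩⟩ := PullDiag.exists_cover qA t c' s hs hc' ((FEt.restrict p').obj V₀)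
  haveI : IsProper s := by rw [← hφf]; haveI : IsIso φ := inferInstanceAs (IsIso ((Over.forget _).map eX.hom)); infer_instance
  haveI : LocallyOfFinitePresentation (D.obj i).hom := (hD i).1
  haveI : QuasiCompact (D.obj i).hom := (hD i).2.1
  haveI : IsSeparated (D.obj i).hom := hsep inferInstance i
  obtain ⟨j, ψ, hj⟩ := H8Lim.exists_isProper_stage hc' t s hs i (D.obj i).hom rfl
  haveI : IsProper (D.obj j).hom := hj
  haveI : LocallyOfFinitePresentation (D.obj j).hom := (hD j).1
  let tj := (D.obj j).hom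
  have hψ : D'.map ψ ≫ t.app i = tj := Over.w (D.map ψ)
  let sw : pullback tj qA ⟶ pullback qA tj := (pullbackSymmetry tj qA).hom
  obtain ⟨Wj, ⟨ej⟩⟩ := exists_lift_of_fp I tj ((FEt.restrict sw).obj ((FEt.restrict (pbMap qA (D'.map ψ) hψ)).obj Wi))
  let mX : X ⟶ D'.obj j := φ' ≫ c'.π.app j
  have hmX : mX ≫ tj = f := by
    rw [Category.assoc]
    exact (congrArg (φ' ≫ ·) (hs j)).trans hφ'f
  let m' : pullback f qA ⟶ pullback tj qA := pullback.lift (pullback.fst f qA ≫ mX) (pullback.snd f qA) (by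
    rw [Category.assoc, hmX, pullback.condition])
  refine ⟨(FEt.restrict mX).obj Wj, ⟨?_⟩⟩
  refine ((restrictCompIso (pullback.fst f qA) mX _ rfl).app Wj).symm ≪≫
    (restrictCompIso m' (pullback.fst tj qA) _ (pullback.lift_fst _ _ _)).app Wj ≪≫ (FEt.restrict m').mapIso ej ≪≫
    ((restrictCompIso m' sw _ rfl).app _).symm ≪≫
    ((restrictCompIso _ (pbMap qA (D'.map ψ) hψ) (p ≫ pbMap qA (c'.π.app i) (hs i)) ?_).app Wi).symm ≪≫
    (restrictCompIso p _ _ rfl).app Wi ≪≫ (FEt.restrict p).mapIso ei ≪≫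
    ((restrictCompIso p p' _ hp).app V₀).symm ≪≫ restrictIdApp V₀
  apply pullback.hom_ext
  · simp [m', sw, p]
  · simp [m', sw, p, mX]
    exact congrArg (fun k => pullback.fst f qA ≫ φ' ≫ k) (c'.w ψ)

/-- Proper base change for finite étale covers over henselian pairs. -/
theorem restrict_isEquivalence_henselian {X : Scheme.{u}} (f : X ⟶ Spec (CommRingCat.of A)) [IsProper f] :
    (FEt.restrict (pullback.fst f (Spec.map (CommRingCat.ofHom (Ideal.Quotient.mk I))))).IsEquivalence :=
  { full := (restrict_full_faithful_henselian I f).1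
    faithful := (restrict_full_faithful_henselian I f).2
    essSurj := restrict_essSurj_henselian I f }

end Groth.Agent.FEtStein
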