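import Groth.Agent.FEtQuot.RestrictExact
import Mathlib.AlgebraicGeometry.Geometrically.Connected
import Mathlib.AlgebraicGeometry.Morphisms.FlatDescent
import Mathlib.AlgebraicGeometry.Sites.Fpqc

/-!
# Base change along a faithfully flat morphism with connected fibres is fully faithful on covers
-/

set_option autoImplicit false
set_option linter.style.haveILetI false
set_option backward.isDefEq.respectTransparency.types false
set_option backward.isDefEq.respectTransparency false
universe u

open CategoryTheory CategoryTheory.Limits AlgebraicGeometry TopologicalSpace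

namespace Groth.Agent.FEtStein

variable {X' X : Scheme.{u}} (i : X' ⟶ X) [Flat i] [Surjective i] [QuasiCompact i]

theorem restrict_map_fst {Y Z : FEt.Cat X} (a : Y ⟶ Z) :
    ((FEt.restrict i).map a).left ≫ pullback.fst Z.hom i = pullback.fst Y.hom i ≫ a.left := by
  simp [FEt.restrict, MorphismProperty.Over.pullback]

theorem restrict_faithful_of_flat : (FEt.restrict i).Faithful := by
  refine ⟨fun {Y Z} a b h => ?_⟩
  haveI : Flat (pullback.fst Y.hom i) := MorphismProperty.pullback_fst _ _ ‹Flat i›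
  haveI : Surjective (pullback.fst Y.hom i) := MorphismProperty.pullback_fst _ _ ‹Surjective i›
  haveI : QuasiCompact (pullback.fst Y.hom i) := MorphismProperty.pullback_fst _ _ ‹QuasiCompact i›
  apply MorphismProperty.Over.Hom.ext
  rw [← cancel_epi (pullback.fst Y.hom i), ← restrict_map_fst i a, ← restrict_map_fst i b, h]

/-- Base change along a faithfully flat quasi-compact morphism with connected fibres is fully faithful. -/
theorem restrict_full_faithful_of_geometricallyConnected [GeometricallyConnected i] :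
    (FEt.restrict i).Full ∧ (FEt.restrict i).Faithful := by
  refine ⟨⟨fun {Y Z} φ => ?_⟩, restrict_faithful_of_flat i⟩
  haveI : IsFinite Y.hom := Y.prop.1
  haveI : Etale Y.hom := Y.prop.2
  haveI : IsFinite Z.hom := Z.prop.1
  haveI : Etale Z.hom := Z.prop.2
  let pY := pullback.fst Y.hom Z.hom
  let pZ := pullback.snd Y.hom Z.hom
  haveI : IsFinite pY := MorphismProperty.pullback_fst _ _ ‹IsFinite Z.hom›
  haveI : Etale pY := MorphismProperty.pullback_fst _ _ ‹Etale Z.hom›
  let p := pullback.fst (pY ≫ Y.hom) i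
  haveI : Flat p := MorphismProperty.pullback_fst _ _ ‹Flat i›
  haveI : Surjective p := MorphismProperty.pullback_fst _ _ ‹Surjective i›
  haveI : QuasiCompact p := MorphismProperty.pullback_fst _ _ ‹QuasiCompact i›
  haveI : GeometricallyConnected p := MorphismProperty.pullback_fst _ _ ‹GeometricallyConnected i›
  let fY := pullback.fst Y.hom i
  haveI : Flat fY := MorphismProperty.pullback_fst _ _ ‹Flat i›
  haveI : Surjective fY := MorphismProperty.pullback_fst _ _ ‹Surjective i›
  haveI : QuasiCompact fY := MorphismProperty.pullback_fst _ _ ‹QuasiCompact i›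
  let q₀ : pullback (pY ≫ Y.hom) i ⟶ pullback Y.hom i :=
    pullback.lift (p ≫ pY) (pullback.snd _ _) (by rw [Category.assoc]; exact pullback.condition)
  have hq : IsPullback p q₀ pY fY := by
    refine IsPullback.of_bot ?_ (pullback.lift_fst _ _ _).symm (IsPullback.of_hasPullback Y.hom i)
    simpa [q₀] using IsPullback.of_hasPullback (pY ≫ Y.hom) i
  haveI : IsFinite q₀ := MorphismProperty.of_isPullback hq ‹IsFinite pY›
  haveI : Etale q₀ := MorphismProperty.of_isPullback hq ‹Etale pY›
  have hφ : φ.left ≫ pullback.snd Z.hom i = pullback.snd Y.hom i := MorphismProperty.Over.w φ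
  let γ : pullback Y.hom i ⟶ pullback (pY ≫ Y.hom) i :=
    pullback.lift (pullback.lift fY (φ.left ≫ pullback.fst Z.hom i) (by
      show fY ≫ Y.hom = (φ.left ≫ pullback.fst Z.hom i) ≫ Z.hom
      rw [pullback.condition, Category.assoc, pullback.condition]
      exact (congrArg (· ≫ i) hφ).symm.trans (Category.assoc _ _ _)))
      (pullback.snd Y.hom i) (by simp only [pY, fY, pullback.lift_fst_assoc]; exact pullback.condition)
  have hγ : γ ≫ q₀ = 𝟙 _ := pullback.hom_ext (by simp [γ, q₀, p, pY, fY]) (by simp [γ, q₀])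
  haveI : IsClosedImmersion (γ ≫ q₀) := by rw [hγ]; infer_instance
  haveI : IsClosedImmersion γ := IsClosedImmersion.of_comp γ q₀
  haveI : Etale (γ ≫ q₀) := by rw [hγ]; infer_instance
  haveI : Etale γ := Etale.of_comp γ q₀
  haveI : IsOpenImmersion γ := IsOpenImmersion.of_flat_of_mono γ
  have hD : IsClopen (Set.range γ) := ⟨γ.isClosedEmbedding.isClosed_range, γ.isOpenEmbedding.isOpen_range⟩
  have hsat : p ⁻¹' (p '' Set.range γ) = Set.range γ := by
    refine le_antisymm (fun z ⟨d, hd, hdz⟩ => ?_) (Set.subset_preimage_image _ _)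
    exact (p.isConnected_preimage_singleton (p z)).isPreconnected.subset_isClopen hD ⟨d, hdz, hd⟩ rfl
  have hquot := Flat.isQuotientMap_of_surjective p
  have hCo : IsOpen (p '' Set.range γ) := hquot.isOpen_preimage.mp (by rw [hsat]; exact hD.isOpen)
  have hCc : IsClosed (p '' Set.range γ) := hquot.isClosed_preimage.mp (by rw [hsat]; exact hD.isClosed)
  let V : (pullback Y.hom Z.hom).Opens := ⟨p '' Set.range γ, hCo⟩
  haveI : IsClosedImmersion V.ι := IsClosedImmersion.of_isPreimmersion _ (by rw [Scheme.Opens.range_ι]; exact hCc)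
  let c := V.ι ≫ pY
  have hr : Set.range γ ⊆ Set.range (p ⁻¹ᵁ V).ι := by
    rw [Scheme.Opens.range_ι]
    exact hsat.symm.subset
  let l := IsOpenImmersion.lift (p ⁻¹ᵁ V).ι γ hr
  have hl : l ≫ (p ⁻¹ᵁ V).ι = γ := IsOpenImmersion.lift_fac _ _ _
  haveI : IsOpenImmersion (l ≫ (p ⁻¹ᵁ V).ι) := by rw [hl]; infer_instance
  haveI : IsOpenImmersion l := IsOpenImmersion.of_comp l (p ⁻¹ᵁ V).ι
  haveI : Epi l.base := by
    rw [TopCat.epi_iff_surjective]
    intro z
    obtain ⟨y, hy⟩ := hsat.subset z.2
    refine ⟨y, (p ⁻¹ᵁ V).ι.injective ?_⟩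
    rw [← Scheme.Hom.comp_apply, hl]
    exact hy
  haveI : IsIso l := IsOpenImmersion.isIso l
  have h2 : IsPullback (p ∣_ V) ((p ⁻¹ᵁ V).ι ≫ q₀) c fY := (isPullback_morphismRestrict p V).paste_vert hq
  haveI : IsIso ((p ⁻¹ᵁ V).ι ≫ q₀) := by
    have h1 : l ≫ ((p ⁻¹ᵁ V).ι ≫ q₀) = 𝟙 _ := by rw [← Category.assoc, hl, hγ]
    exact IsIso.of_isIso_fac_left h1
  haveI : IsIso c := MorphismProperty.of_isPullback_of_descendsAlong (P := MorphismProperty.isomorphisms Scheme.{u})
    (Q := @Surjective ⊓ @Flat ⊓ @QuasiCompact) h2.flip ⟨⟨‹_›, ‹_›⟩, ‹_›⟩ (show IsIso _ from inferInstance)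
  refine ⟨MorphismProperty.Over.homMk (inv c ≫ V.ι ≫ pZ) ?_, ?_⟩
  · show (inv c ≫ V.ι ≫ pZ) ≫ Z.hom = Y.hom
    rw [Category.assoc, Category.assoc, IsIso.inv_comp_eq, Category.assoc, ← pullback.condition]
  · apply MorphismProperty.Over.Hom.ext
    apply pullback.hom_ext
    · rw [restrict_map_fst]
      show fY ≫ inv c ≫ V.ι ≫ pZ = _
      have h3 : fY ≫ inv c = l ≫ (p ∣_ V) := by
        rw [IsIso.comp_inv_eq, Category.assoc, h2.w, ← Category.assoc, ← Category.assoc, hl, hγ, Category.id_comp]
      rw [← Category.assoc, h3, Category.assoc, morphismRestrict_ι_assoc, ← Category.assoc l, hl]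
      simp [γ, p, pZ]
    · rw [hφ]
      exact MorphismProperty.Over.w _

end Groth.Agent.FEtStein
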