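import Groth.Agent.FEtStein.FibreIso
import Groth.Agent.FEtStein.ConnFibreFF
import Groth.Agent.FBaseLib.Geom
import Groth.Agent.FEtQuot.FieldLimit
import Groth.Agent.S0289
import Groth.Agent.Props12.FinLocFree
import Mathlib.CategoryTheory.Galois.Decomposition
import Mathlib.RingTheory.Jacobson.Ring

/-!
# Finite étale covers of proper schemes under extensions of algebraically closed fields
-/

set_option autoImplicit false
set_option linter.style.haveILetI false
set_option backward.isDefEq.respectTransparency.types false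
set_option backward.isDefEq.respectTransparency false
universe u

open CategoryTheory CategoryTheory.Limits AlgebraicGeometry TopologicalSpace
open Groth.Agent.FEtQuot

namespace Groth.Agent.FEtStein

/-- A clopen set is saturated for a map with connected fibres. -/
theorem preimage_image_of_isClopen {T N : Scheme.{u}} (p : T ⟶ N) [GeometricallyConnected p] {D : Set T}
    (hD : IsClopen D) : p ⁻¹' (p '' D) = D := by
  refine le_antisymm (fun z ⟨d, hd, hdz⟩ => ?_) (Set.subset_preimage_image _ _)
  exact (p.isConnected_preimage_singleton (p z)).isPreconnected.subset_isClopen hD ⟨d, hdz, hd⟩ rfl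

section side

variable {P B XA X S S' Wa Sp : Scheme.{u}} (φA : XA ⟶ S) [IsProper φA] [Flat φA] [LocallyOfFinitePresentation φA]
  (s' : S' ⟶ S) [ConnectedSpace S'] (a : Sp ⟶ S) (a' : Sp ⟶ S') (ha' : a' ≫ s' = a) (p₀ : Sp)
  (hp₀ : ∀ z : Sp, z = p₀)
  (f : X ⟶ Sp) (ja : X ⟶ XA) (hja : IsPullback ja f φA a)
  (b : B ⟶ XA) [IsFinite b] [Etale b] (wa : Wa ⟶ X) (jB : Wa ⟶ B) (hjB : IsPullback jB wa b ja)
  (π : P ⟶ B) [IsFinite π] [Etale π] (g : P ⟶ S) (hg : π ≫ b ≫ φA = g)

/-- The map from the fibre at `a` to the base change along `s'`. -/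
noncomputable def atPoint : pullback g a ⟶ pullback g s' :=
  pullback.lift (pullback.fst g a) (pullback.snd g a ≫ a') (by rw [pullback.condition, Category.assoc, ha'])

/-- The projection of `P` to `B` after base change along `s'`. -/
noncomputable def proj : pullback g s' ⟶ pullback b (pullback.fst φA s') :=
  pullback.lift (pullback.fst g s' ≫ π) (pullback.lift (pullback.fst g s' ≫ π ≫ b) (pullback.snd g s')
    (by rw [Category.assoc, Category.assoc, hg, pullback.condition]))
    (by rw [Category.assoc, pullback.lift_fst])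

theorem prop_proj : IsFinite (proj φA s' b π g hg) ∧ Etale (proj φA s' b π g hg) := by
  have h : IsPullback (pullback.fst g s') (proj φA s' b π g hg) π (pullback.fst b (pullback.fst φA s')) := by
    refine IsPullback.of_bot ?_ (pullback.lift_fst _ _ _).symm
      ((IsPullback.of_hasPullback b (pullback.fst φA s')).paste_vert (IsPullback.of_hasPullback φA s'))
    rw [← Category.assoc, proj, pullback.lift_snd, pullback.lift_snd, hg]
    exact IsPullback.of_hasPullback g s'
  exact ⟨MorphismProperty.of_isPullback h ‹IsFinite π›, MorphismProperty.of_isPullback h ‹Etale π›⟩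

include hp₀ ha' hja hjB in
/-- A clopen part of `P` over `S'` which is a single sheet over `B` at the point maps isomorphically onto `B`. -/
theorem isIso_side (δ : Wa ⟶ pullback g a) [IsOpenImmersion δ] (hδ₁ : δ ≫ pullback.fst g a ≫ π = jB)
    (hδ₂ : δ ≫ pullback.snd g a = wa ≫ f)
    (C : (pullback g s').Opens) (hCc : IsClosed (C : Set ↥(pullback g s')))
    (hC : atPoint s' a a' ha' g ⁻¹' (C : Set ↥(pullback g s')) = Set.range δ) :
    IsIso (C.ι ≫ proj φA s' b π g hg) := by
  obtain ⟨_, _⟩ := prop_proj φA s' b π g hg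
  haveI : IsClosedImmersion C.ι := IsClosedImmersion.of_isPreimmersion _ (by rwa [Scheme.Opens.range_ι])
  let q := C.ι ≫ proj φA s' b π g hg
  let v := pullback.snd b (pullback.fst φA s') ≫ pullback.snd φA s'
  haveI : UniversallyOpen (pullback.snd φA s') := inferInstance
  haveI : IsProper (pullback.snd φA s') := inferInstance
  haveI : IsFinite (pullback.snd b (pullback.fst φA s')) := MorphismProperty.pullback_snd _ _ ‹IsFinite b›
  haveI : Etale (pullback.snd b (pullback.fst φA s')) := MorphismProperty.pullback_snd _ _ ‹Etale b›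
  have ho : IsOpenMap v := (pullback.snd φA s').isOpenMap.comp (pullback.snd b (pullback.fst φA s')).isOpenMap
  have hc : IsClosedMap v := (pullback.snd φA s').isClosedMap.comp (pullback.snd b (pullback.fst φA s')).isClosedMap
  let jX : X ⟶ pullback φA s' := pullback.lift ja (f ≫ a') (by rw [Category.assoc, ha']; exact hja.w)
  let ρ : Wa ⟶ pullback b (pullback.fst φA s') := pullback.lift jB (wa ≫ jX)
    (by rw [Category.assoc, pullback.lift_fst]; exact hjB.w)
  have hjX : IsPullback jX f (pullback.snd φA s') a' := by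
    refine IsPullback.of_right ?_ (pullback.lift_snd _ _ _) (IsPullback.of_hasPullback φA s')
    rw [pullback.lift_fst, ha']
    exact hja
  have hρ : IsPullback ρ (wa ≫ f) v a' := by
    refine IsPullback.paste_vert (IsPullback.of_right ?_ (pullback.lift_snd _ _ _)
      (IsPullback.of_hasPullback b (pullback.fst φA s'))) hjX
    rw [pullback.lift_fst, pullback.lift_fst]
    exact hjB
  have hrange : v ⁻¹' {a' p₀} ⊆ Set.range ρ := by
    intro z (hz : v z = a' p₀)
    obtain ⟨y, hy, -⟩ := Scheme.Pullback.exists_preimage_pullback (f := v) (g := a') z p₀ hz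
    refine ⟨hρ.isoPullback.inv y, ?_⟩
    rw [← Scheme.Hom.comp_apply, hρ.isoPullback_inv_fst]
    exact hy
  haveI : Mono δ := inferInstance
  have hl : Set.range (δ ≫ atPoint s' a a' ha' g) ⊆ Set.range C.ι := by
    rintro _ ⟨z, rfl⟩
    rw [Scheme.Opens.range_ι]
    exact (Set.ext_iff.1 hC (δ z)).2 ⟨z, rfl⟩
  let l : Wa ⟶ C := IsOpenImmersion.lift C.ι (δ ≫ atPoint s' a a' ha' g) hl
  have hlι : l ≫ C.ι = δ ≫ atPoint s' a a' ha' g := IsOpenImmersion.lift_fac _ _ _
  have hlq : l ≫ q = ρ := by
    rw [← Category.assoc, hlι]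
    refine pullback.hom_ext ?_ (pullback.hom_ext ?_ ?_)
    · simp [proj, atPoint, ρ, hδ₁]
    · simp only [proj, atPoint, ρ, jX, Category.assoc, pullback.lift_fst, pullback.lift_snd, pullback.lift_fst_assoc]
      rw [reassoc_of% hδ₁]
      exact hjB.w
    · simp only [proj, atPoint, ρ, jX, Category.assoc, pullback.lift_fst, pullback.lift_snd, pullback.lift_snd_assoc]
      rw [reassoc_of% hδ₂]
  haveI : IsIso (pullback.snd q ρ) := by
    refine ⟨pullback.lift l (𝟙 _) (by rw [hlq, Category.id_comp]), ?_, pullback.lift_snd _ _ _⟩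
    let θ : pullback q ρ ⟶ pullback g a := pullback.lift (pullback.fst q ρ ≫ C.ι ≫ pullback.fst g s')
      (pullback.snd q ρ ≫ wa ≫ f) (by
        have h := congrArg (fun k => k ≫ v ≫ s') (pullback.condition (f := q) (g := ρ))
        simpa [q, proj, v, ρ, jX, ha', ← pullback.condition (f := g) (g := s')] using h)
    have hθ : θ ≫ atPoint s' a a' ha' g = pullback.fst q ρ ≫ C.ι := by
      refine pullback.hom_ext (by simp [θ, atPoint]) ?_
      have h := congrArg (fun k => k ≫ v) (pullback.condition (f := q) (g := ρ))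
      simpa [q, proj, v, ρ, jX, θ, atPoint] using h.symm
    have hθr : Set.range θ ⊆ Set.range δ := by
      rintro _ ⟨z, rfl⟩
      rw [← hC]
      show atPoint s' a a' ha' g (θ z) ∈ (C : Set ↥(pullback g s'))
      rw [← Scheme.Hom.comp_apply, hθ, Scheme.Hom.comp_apply]
      exact (pullback.fst q ρ z).2
    let w := IsOpenImmersion.lift δ θ hθr
    have hw : w ≫ δ = θ := IsOpenImmersion.lift_fac _ _ _
    have hws : w = pullback.snd q ρ := by
      have h1 : w ≫ jB = pullback.snd q ρ ≫ jB := by
        have h := congrArg (fun k => k ≫ pullback.fst b _) (pullback.condition (f := q) (g := ρ))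
        rw [← hδ₁, reassoc_of% hw]
        simpa [q, proj, ρ, θ, hδ₁] using h
      have h2 : w ≫ wa ≫ ja = pullback.snd q ρ ≫ wa ≫ ja := by
        rw [← hjB.w, reassoc_of% h1]
      refine hjB.hom_ext h1 (hja.hom_ext ?_ ?_)
      · simpa using h2
      · rw [Category.assoc, Category.assoc, ← hδ₂, reassoc_of% hw]
        simp [θ, hδ₂]
    refine pullback.hom_ext ?_ (by simp)
    rw [Category.assoc, pullback.lift_fst, Category.id_comp, ← cancel_mono C.ι, Category.assoc, hlι, ← hws,
      reassoc_of% hw, hθ]
  exact isIso_of_fibre q v ho hc (a' p₀) ρ hrange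

end side

/-- A cover of `X ×_k S` is, after a connected finite étale cover of `S`, constant equal to its restriction to
a rational point. -/
theorem exists_iso_restrict {k : Type u} [Field k] [IsAlgClosed k] {X : Scheme.{u}}
    (f : X ⟶ Spec (CommRingCat.of k)) [IsProper f] [AlgebraicGeometry.IsReduced X] {S : Scheme.{u}}
    (bs : S ⟶ Spec (CommRingCat.of k)) [IsSeparated bs] [ConnectedSpace S]
    (a : Spec (CommRingCat.of k) ⟶ S) (ha : a ≫ bs = 𝟙 _) (W₀ : FEt.Cat (pullback f bs)) :
    ∃ (S' : Scheme.{u}) (s' : S' ⟶ S), IsFinite s' ∧ Surjective s' ∧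
      Nonempty ((FEt.restrict (pullback.fst (pullback.snd f bs) s')).obj W₀ ≅
        (FEt.restrict (pullback.fst (pullback.snd f bs) s')).obj ((FEt.restrict (pullback.fst f bs)).obj
          ((FEt.restrict (pullback.lift (𝟙 X) (f ≫ a) (by rw [Category.id_comp, Category.assoc, ha, Category.comp_id]))).obj W₀))) := by
  haveI : Flat f := inferInstance
  haveI : LocallyOfFinitePresentation f := inferInstance
  let φA := pullback.snd f bs
  let fstA := pullback.fst f bs
  haveI : IsProper φA := MorphismProperty.pullback_snd _ _ ‹IsProper f›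
  haveI : Flat φA := MorphismProperty.pullback_snd _ _ ‹Flat f›
  haveI : LocallyOfFinitePresentation φA := MorphismProperty.pullback_snd _ _ ‹LocallyOfFinitePresentation f›
  haveI : GeometricallyReduced f := by
    haveI : IsIso (Spec.map (CommRingCat.ofHom (algebraMap k k))) :=
      inferInstanceAs (IsIso (Spec.map (𝟙 (CommRingCat.of k))))
    haveI : AlgebraicGeometry.IsReduced (pullback f (Spec.map (CommRingCat.ofHom (algebraMap k k)))) :=
      isReduced_of_isOpenImmersion (pullback.fst f (Spec.map (CommRingCat.ofHom (algebraMap k k))))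
    exact FBaseLib.geometricallyReduced_of_perfect (Ω := k) f
  let ja : X ⟶ pullback f bs :=
    pullback.lift (𝟙 X) (f ≫ a) (by rw [Category.id_comp, Category.assoc, ha, Category.comp_id])
  have hja : IsPullback ja f φA a := by
    refine IsPullback.of_right ?_ (pullback.lift_snd _ _ _) (IsPullback.of_hasPullback f bs)
    rw [pullback.lift_fst, ha]
    exact IsPullback.of_horiz_isIso ⟨(Category.id_comp _).trans (Category.comp_id _).symm⟩
  have hjaf : ja ≫ fstA = 𝟙 X := pullback.lift_fst _ _ _
  haveI : IsFinite W₀.hom := W₀.prop.1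
  haveI : Etale W₀.hom := W₀.prop.2
  let wa := pullback.snd W₀.hom ja
  haveI : IsFinite wa := MorphismProperty.pullback_snd _ _ ‹IsFinite W₀.hom›
  haveI : Etale wa := MorphismProperty.pullback_snd _ _ ‹Etale W₀.hom›
  let bU := pullback.snd wa fstA
  haveI : IsFinite bU := MorphismProperty.pullback_snd _ _ ‹IsFinite wa›
  haveI : Etale bU := MorphismProperty.pullback_snd _ _ ‹Etale wa›
  let jB₂ : pullback W₀.hom ja ⟶ pullback wa fstA :=
    pullback.lift (𝟙 _) (wa ≫ ja) (by rw [Category.assoc, hjaf, Category.id_comp, Category.comp_id])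
  have hjB₂ : IsPullback jB₂ wa bU ja := by
    refine IsPullback.of_right ?_ (pullback.lift_snd _ _ _) (IsPullback.of_hasPullback wa fstA)
    rw [pullback.lift_fst, hjaf]
    exact IsPullback.of_horiz_isIso ⟨(Category.id_comp _).trans (Category.comp_id _).symm⟩
  let π₁ := pullback.fst W₀.hom bU
  let π₂ := pullback.snd W₀.hom bU
  haveI : IsFinite π₁ := MorphismProperty.pullback_fst _ _ ‹IsFinite bU›
  haveI : Etale π₁ := MorphismProperty.pullback_fst _ _ ‹Etale bU›
  haveI : IsFinite π₂ := MorphismProperty.pullback_snd _ _ ‹IsFinite W₀.hom›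
  haveI : Etale π₂ := MorphismProperty.pullback_snd _ _ ‹Etale W₀.hom›
  let g := (π₁ ≫ W₀.hom) ≫ φA
  have hg₁ : π₁ ≫ W₀.hom ≫ φA = g := (Category.assoc _ _ _).symm
  have hg₂ : π₂ ≫ bU ≫ φA = g :=
    (pullback.condition_assoc (f := W₀.hom) (g := bU) φA).symm.trans hg₁
  have hfa : pullback.fst g a ≫ π₁ ≫ W₀.hom ≫ φA = pullback.snd g a ≫ a := by
    rw [hg₁]; exact pullback.condition
  have hfk : pullback.fst g a ≫ π₁ ≫ W₀.hom ≫ fstA ≫ f = pullback.snd g a := by
    rw [show fstA ≫ f = φA ≫ bs from pullback.condition, reassoc_of% hfa, ha, Category.comp_id]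
  haveI : IsProper g := inferInstanceAs (IsProper ((π₁ ≫ W₀.hom) ≫ φA))
  haveI : Flat g := inferInstanceAs (Flat ((π₁ ≫ W₀.hom) ≫ φA))
  haveI : LocallyOfFinitePresentation g := inferInstanceAs (LocallyOfFinitePresentation ((π₁ ≫ W₀.hom) ≫ φA))
  have hred : ∀ (Ω : Type u) [Field Ω] [IsAlgClosed Ω] (σ : Spec (CommRingCat.of Ω) ⟶ S),
      AlgebraicGeometry.IsReduced (pullback g σ) := fun Ω _ _ σ => by
    haveI : AlgebraicGeometry.IsReduced (pullback φA σ) :=
      GeometricallyReduced.geometrically_isReduced (f := φA) σ _ _ (IsPullback.of_hasPullback φA σ)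
    exact isReduced_pullback_comp (π₁ ≫ W₀.hom) φA σ
  obtain ⟨_, _⟩ := isFinite_etale_fromNormalization g hred
  haveI := geometricallyConnected_toNormalization g hred
  let n := g.fromNormalization
  let t := g.toNormalization
  -- the diagonal sheet at the rational point
  let δ : pullback W₀.hom ja ⟶ pullback g a :=
    pullback.lift (pullback.lift (pullback.fst W₀.hom ja) jB₂
      (by rw [pullback.condition]; exact hjB₂.w.symm)) (wa ≫ f) (by
      simp only [g, π₁, pullback.lift_fst_assoc, Category.assoc]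
      rw [pullback.condition_assoc, hja.w])
  let h₁ : pullback g a ⟶ pullback W₀.hom ja :=
    pullback.lift (pullback.fst g a ≫ π₁) (pullback.fst g a ≫ π₁ ≫ W₀.hom ≫ fstA) (by
      refine pullback.hom_ext ?_ ?_
      · simp only [Category.assoc, pullback.lift_fst, Category.comp_id, ja, fstA]
      · simp only [Category.assoc, pullback.lift_snd, ja]
        exact hfa.trans (by simpa only [Category.assoc] using (congrArg (· ≫ a) hfk).symm))
  have hh₁ : h₁ ≫ wa ≫ f = pullback.snd g a := by
    simp only [h₁, wa, pullback.lift_snd_assoc, Category.assoc]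
    exact hfk
  haveI : Etale h₁ ∧ IsFinite h₁ := by
    have h : IsPullback (pullback.fst g a) h₁ π₁ (pullback.fst W₀.hom ja) := by
      refine IsPullback.of_bot ?_ (pullback.lift_fst _ _ _).symm
        ((IsPullback.of_hasPullback W₀.hom ja).paste_vert hja)
      rw [hh₁, hg₁]
      exact IsPullback.of_hasPullback g a
    exact ⟨MorphismProperty.of_isPullback h ‹Etale π₁›, MorphismProperty.of_isPullback h ‹IsFinite π₁›⟩
  obtain ⟨_, _⟩ := this
  have hδh : δ ≫ h₁ = 𝟙 _ := by
    refine pullback.hom_ext (by simp [δ, h₁, π₁]) ?_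
    simp only [δ, h₁, π₁, Category.assoc, pullback.lift_snd, pullback.lift_fst_assoc, Category.id_comp]
    rw [pullback.condition_assoc, hjaf, Category.comp_id]
  haveI : IsClosedImmersion (δ ≫ h₁) := by rw [hδh]; infer_instance
  haveI : IsClosedImmersion δ := IsClosedImmersion.of_comp δ h₁
  haveI : Etale (δ ≫ h₁) := by rw [hδh]; infer_instance
  haveI : Etale δ := Etale.of_comp δ h₁
  haveI : IsOpenImmersion δ := IsOpenImmersion.of_flat_of_mono δ
  have hD : IsClopen (Set.range δ) := ⟨δ.isClosedEmbedding.isClosed_range, δ.isOpenEmbedding.isOpen_range⟩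
  let ta : pullback g a ⟶ pullback n a :=
    pullback.lift (pullback.fst g a ≫ t) (pullback.snd g a) (by
      rw [Category.assoc, g.toNormalization_fromNormalization, pullback.condition])
  have hta : IsPullback (pullback.fst g a) ta t (pullback.fst n a) := by
    refine IsPullback.of_bot ?_ (pullback.lift_fst _ _ _).symm (IsPullback.of_hasPullback n a)
    rw [pullback.lift_snd, g.toNormalization_fromNormalization]
    exact IsPullback.of_hasPullback g a
  haveI : GeometricallyConnected ta := MorphismProperty.of_isPullback hta ‹GeometricallyConnected t›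
  have hT₀ : ta ⁻¹' (ta '' Set.range δ) = Set.range δ := preimage_image_of_isClopen ta hD
  -- a connected cover of the base having sections through all points over the rational point
  letI := preGaloisCategory S
  haveI := galoisCategory (X := S)
  obtain ⟨hF⟩ := fiberFunctor (X := S) a
  haveI := hF
  let Nc : FEt.Cat S := MorphismProperty.Over.mk ⊤ n ⟨inferInstance, inferInstance⟩
  obtain ⟨A, α, hgal, hbij⟩ := PreGaloisCategory.exists_galois_representative (fiberFin a) Nc
  haveI := connectedSpace_of_isConnected A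
  haveI : ConnectedSpace ((𝟭 Scheme.{u}).obj A.left) := ‹ConnectedSpace A.left›
  haveI : ConnectedSpace ((Functor.fromPUnit S).obj A.right) := ‹ConnectedSpace S›
  let s' := A.hom
  let a' : Spec (CommRingCat.of k) ⟶ A.left := α.1
  have ha' : a' ≫ s' = a := α.2
  haveI : IsFinite s' := A.prop.1
  haveI : Etale s' := A.prop.2
  haveI : Surjective s' := surjective_of_connected s'
  haveI : Finite (A ⟶ Nc) := Finite.of_injective _ hbij.1
  haveI : IsFinite (pullback.snd n a) := MorphismProperty.pullback_snd _ _ ‹IsFinite n›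
  haveI : Etale (pullback.snd n a) := MorphismProperty.pullback_snd _ _ ‹Etale n›
  let pt := IsLocalRing.closedPoint k
  let c : (A ⟶ Nc) → (Spec (CommRingCat.of k) ⟶ pullback n a) := fun σ =>
    pullback.lift (a' ≫ σ.left) (𝟙 _) (by
      rw [Category.assoc, show σ.left ≫ n = s' from MorphismProperty.Over.w σ, ha', Category.id_comp])
  have hc : ∀ z, ∃ σ, c σ pt = z := fun z => by
    haveI : ConnectedSpace ↥(Spec ((pullback n a).residueField z)) :=
      inferInstanceAs (ConnectedSpace (PrimeSpectrum _))
    obtain ⟨d, hd, hw⟩ := exists_section_of_connected (pullback.snd n a) ((pullback n a).fromSpecResidueField z)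
    obtain ⟨σ, hσ⟩ := hbij.2 (⟨d ≫ pullback.fst n a, by
      exact (Category.assoc _ _ _).trans ((congrArg (d ≫ ·) pullback.condition).trans
        ((Category.assoc _ _ _).symm.trans ((congrArg (· ≫ a) hd).trans (Category.id_comp _))))⟩ : FEt.fiberObj a Nc)
    refine ⟨σ, ?_⟩
    have h : c σ = d := pullback.hom_ext
      ((pullback.lift_fst _ _ _).trans (congrArg Subtype.val hσ)) ((pullback.lift_snd _ _ _).trans hd.symm)
    have h' := (pullback n a).fromSpecResidueField_apply z (IsLocalRing.closedPoint _)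
    rw [hw, Scheme.Hom.comp_apply] at h'
    rw [h]
    exact (congrArg d (Subsingleton.elim (α := PrimeSpectrum k) _ _)).trans h'
  let τ : (A ⟶ Nc) → (A.left ⟶ pullback n s') := fun σ =>
    pullback.lift σ.left (𝟙 _) (by
      rw [show σ.left ≫ n = s' from MorphismProperty.Over.w σ, Category.id_comp])
  haveI : IsFinite (pullback.snd n s') := MorphismProperty.pullback_snd _ _ ‹IsFinite n›
  haveI : Etale (pullback.snd n s') := MorphismProperty.pullback_snd _ _ ‹Etale n›
  have hτ : ∀ σ, IsClopen (Set.range (τ σ)) := fun σ => by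
    have h : τ σ ≫ pullback.snd n s' = 𝟙 _ := pullback.lift_snd _ _ _
    haveI : IsClosedImmersion (τ σ ≫ pullback.snd n s') := by rw [h]; infer_instance
    haveI : IsClosedImmersion (τ σ) := IsClosedImmersion.of_comp (τ σ) (pullback.snd n s')
    haveI : Etale (τ σ ≫ pullback.snd n s') := by rw [h]; infer_instance
    haveI : Etale (τ σ) := Etale.of_comp (τ σ) (pullback.snd n s')
    haveI : IsOpenImmersion (τ σ) := IsOpenImmersion.of_flat_of_mono _
    exact ⟨(τ σ).isClosedEmbedding.isClosed_range, (τ σ).isOpenEmbedding.isOpen_range⟩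
  let J₀ : Set (A ⟶ Nc) := {σ | c σ pt ∈ ta '' Set.range δ}
  have hT : IsClopen (⋃ σ ∈ J₀, Set.range (τ σ)) :=
    Set.Finite.isClopen_biUnion (Set.toFinite _) fun σ _ => hτ σ
  let t' : pullback g s' ⟶ pullback n s' :=
    pullback.lift (pullback.fst g s' ≫ t) (pullback.snd g s') (by
      rw [Category.assoc, g.toNormalization_fromNormalization, pullback.condition])
  let C : (pullback g s').Opens := ⟨t' ⁻¹' (⋃ σ ∈ J₀, Set.range (τ σ)), hT.isOpen.preimage t'.continuous⟩
  have hCc : IsClosed (C : Set ↥(pullback g s')) := hT.isClosed.preimage t'.continuous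
  let ν : pullback n a ⟶ pullback n s' :=
    pullback.lift (pullback.fst n a) (pullback.snd n a ≫ a')
      (pullback.condition.trans ((congrArg (pullback.snd n a ≫ ·) ha'.symm).trans (Category.assoc _ _ _).symm))
  have hν : Function.Injective ν := by
    have h : IsPullback ν (pullback.snd n a) (pullback.snd n s') a' := by
      refine IsPullback.of_right ?_ (pullback.lift_snd _ _ _) (IsPullback.of_hasPullback n s')
      rw [pullback.lift_fst, ha']
      exact IsPullback.of_hasPullback n a
    haveI : IsClosedImmersion (a' ≫ s' ≫ bs) := by rw [reassoc_of% ha', ha]; infer_instance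
    haveI : IsClosedImmersion a' := IsClosedImmersion.of_comp a' (s' ≫ bs)
    haveI : IsClosedImmersion ν := MorphismProperty.of_isPullback h.flip ‹IsClosedImmersion a'›
    exact ν.isClosedEmbedding.injective
  have hcν : ∀ σ, ν (c σ pt) = τ σ (a' pt) := fun σ => by
    rw [← Scheme.Hom.comp_apply, ← Scheme.Hom.comp_apply]
    exact congrArg (fun k : Spec (CommRingCat.of k) ⟶ pullback n s' => k pt)
      (pullback.hom_ext (by simp [c, ν, τ]) (by simp [c, ν, τ]; exact Category.id_comp _))
  have hC : atPoint s' a a' ha' g ⁻¹' (C : Set ↥(pullback g s')) = Set.range δ := by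
    have hcomm : atPoint s' a a' ha' g ≫ t' = ta ≫ ν :=
      pullback.hom_ext (by simp [atPoint, t', ta, ν]) (by simp [atPoint, t', ta, ν])
    have hν' : ν ⁻¹' (⋃ σ ∈ J₀, Set.range (τ σ)) = ta '' Set.range δ := by
      ext z
      obtain ⟨σ₀, rfl⟩ := hc z
      refine ⟨fun hz => ?_, fun hz => Set.mem_biUnion (x := σ₀) hz ⟨a' pt, (hcν σ₀).symm⟩⟩
      obtain ⟨σ, hσ, y, hy⟩ := Set.mem_iUnion₂.1 hz
      have hy' : y = a' pt := by
        have e1 : pullback.snd n s' (τ σ y) = y := by
          rw [← Scheme.Hom.comp_apply, pullback.lift_snd]; rfl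
        have e2 : pullback.snd n s' (ν (c σ₀ pt)) = a' pt := by
          rw [hcν, ← Scheme.Hom.comp_apply, pullback.lift_snd]; rfl
        rw [← e1, hy, e2]
      rw [hy', ← hcν] at hy
      rw [← hν hy]
      exact hσ
    ext z
    show t' (atPoint s' a a' ha' g z) ∈ (⋃ σ ∈ J₀, Set.range (τ σ)) ↔ _
    rw [← Scheme.Hom.comp_apply, hcomm, Scheme.Hom.comp_apply, ← Set.mem_preimage, hν',
      ← Set.mem_preimage, hT₀]
  have hpt : ∀ z : ↥(Spec (CommRingCat.of k)), z = pt := fun z => Subsingleton.elim (α := PrimeSpectrum k) _ _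
  have hδ₁ : δ ≫ pullback.fst g a ≫ π₁ = pullback.fst W₀.hom ja := by simp [δ, π₁]
  have hδ₂ : δ ≫ pullback.fst g a ≫ π₂ = jB₂ := by simp [δ, π₂]
  haveI i₁ := isIso_side φA s' a a' ha' pt hpt f ja hja W₀.hom wa (pullback.fst W₀.hom ja)
    (IsPullback.of_hasPullback W₀.hom ja) π₁ g hg₁ δ hδ₁ (pullback.lift_snd _ _ _) C hCc hC
  haveI i₂ := isIso_side φA s' a a' ha' pt hpt f ja hja bU wa jB₂ hjB₂ π₂ g hg₂ δ hδ₂
    (pullback.lift_snd _ _ _) C hCc hC
  refine ⟨A.left, s', inferInstance, inferInstance, ⟨MorphismProperty.Over.isoMk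
    ((asIso (C.ι ≫ proj φA s' W₀.hom π₁ g hg₁)).symm ≪≫ asIso (C.ι ≫ proj φA s' bU π₂ g hg₂)) ?_⟩⟩
  show (inv (C.ι ≫ proj φA s' W₀.hom π₁ g hg₁) ≫ C.ι ≫ proj φA s' bU π₂ g hg₂) ≫
    pullback.snd bU (pullback.fst φA s') = pullback.snd W₀.hom (pullback.fst φA s')
  rw [Category.assoc, IsIso.inv_comp_eq, Category.assoc, Category.assoc]
  simp only [proj, pullback.lift_snd]
  congr 2
  simp [π₁, π₂, pullback.condition]

end Groth.Agent.FEtStein
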