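import Mathlib.RingTheory.Unramified.Locus
import Mathlib.RingTheory.Smooth.Fiber
import Mathlib.RingTheory.Kaehler.TensorProduct
import Mathlib.RingTheory.LocalRing.Module
import Mathlib.RingTheory.Etale.Basic

/-!
# A finite flat algebra with an unramified fibre is étale nearby
-/

set_option autoImplicit false
set_option backward.isDefEq.respectTransparency.types false
set_option backward.isDefEq.respectTransparency false
set_option linter.style.haveILetI false
universe u

open scoped TensorProduct

namespace Groth.Agent.FEtStein

/-- A finite flat algebra with an unramified fibre at `p` is étale after inverting some `a ∉ p`. -/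
theorem exists_etale_away (A C : Type u) [CommRing A] [CommRing C] [Algebra A C] [IsNoetherianRing A]
    [Module.Finite A C] [Module.Flat A C] (p : Ideal A) [p.IsPrime]
    (h : Algebra.FormallyUnramified p.ResidueField (p.ResidueField ⊗[A] C)) :
    ∃ a ∉ p, Algebra.Etale A (Localization.Away (algebraMap A C a)) := by
  haveI : Module.Finite A Ω[C⁄A] := Module.Finite.trans C _
  haveI : Subsingleton (p.ResidueField ⊗[A] Ω[C⁄A]) := by
    haveI := (Algebra.formallyUnramified_iff _ _).mp h
    letI : Algebra C (p.ResidueField ⊗[A] C) := Algebra.TensorProduct.rightAlgebra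
    exact (KaehlerDifferential.tensorKaehlerEquivBase A p.ResidueField C
      (p.ResidueField ⊗[A] C)).subsingleton
  have hp : ⟨p, ‹_›⟩ ∉ Module.support A Ω[C⁄A] := fun hp =>
    not_nontrivial _ ((Module.mem_support_iff_nontrivial_residueField_tensorProduct ⟨p, ‹_›⟩).1 hp)
  rw [Module.support_eq_zeroLocus] at hp
  obtain ⟨a, ha, hap⟩ := Set.not_subset.1 hp
  refine ⟨a, hap, ?_⟩
  haveI : Algebra.FormallyUnramified A (Localization.Away (algebraMap A C a)) := by
    rw [← Algebra.basicOpen_subset_unramifiedLocus_iff, Algebra.unramifiedLocus_eq_compl_support]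
    intro q hq hs
    refine hq ?_
    obtain ⟨m, hm⟩ := Module.mem_support_iff'.1 hs
    by_contra hc
    refine hm (algebraMap A C a) hc ?_
    rw [algebraMap_smul]
    exact Module.mem_annihilator.1 ha m
  haveI : Algebra.FinitePresentation A C := Algebra.FinitePresentation.of_finiteType.1 inferInstance
  haveI : Algebra.FinitePresentation A (Localization.Away (algebraMap A C a)) :=
    Algebra.FinitePresentation.trans A C _
  haveI : Module.Flat A (Localization.Away (algebraMap A C a)) := Module.Flat.trans A C _
  exact Algebra.Etale.of_formallyUnramified_of_flat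

end Groth.Agent.FEtStein
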