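import Groth.Agent.FEtStein.EtaleAlgebraize
import Groth.Agent.FEtStein.AlgClosedEquiv
import Groth.Agent.S0041
import Groth.Agent.S0289

/-!
# Covers of the closed fibre of a proper scheme over a complete Noetherian ring lift
-/

set_option autoImplicit false
set_option linter.style.haveILetI false
set_option backward.isDefEq.respectTransparency.types false
set_option backward.isDefEq.respectTransparency false
universe u

open CategoryTheory CategoryTheory.Limits AlgebraicGeometry TopologicalSpace

namespace Groth.Agent.FEtStein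

section

variable {A : Type u} [CommRing A] (I : Ideal A) {X : Scheme.{u}} (f : X ⟶ Spec (CommRingCat.of A))

theorem isClosedImmersion_specQuot (n : ℕ) : IsClosedImmersion (CohB1.specQuot I n) :=
  IsClosedImmersion.spec_of_surjective _ Ideal.Quotient.mk_surjective

theorem range_specQuot (n : ℕ) : Set.range (CohB1.specQuot I n) = PrimeSpectrum.zeroLocus (I : Set A) := by
  refine (range_comap_of_surjective _ _ Ideal.Quotient.mk_surjective).trans ?_
  rw [Ideal.mk_ker]
  exact PrimeSpectrum.zeroLocus_pow I n.succ_pos.ne'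

theorem thickTrans_ι (n : ℕ) : CohB1.thickTrans f I n ≫ CohB1.thickι f I (n + 1) = CohB1.thickι f I n :=
  (pullback.lift_fst _ _ _).trans (Category.comp_id _)

theorem isEquivalence_restrict_thickTrans (n : ℕ) : (FEt.restrict (CohB1.thickTrans f I n)).IsEquivalence := by
  haveI : ∀ m, IsClosedImmersion (CohB1.thickι f I m) := fun m =>
    MorphismProperty.pullback_fst _ _ (isClosedImmersion_specQuot I m)
  haveI : IsClosedImmersion (CohB1.thickTrans f I n ≫ CohB1.thickι f I (n + 1)) := by
    rw [thickTrans_ι]; infer_instance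
  haveI : IsClosedImmersion (CohB1.thickTrans f I n) := IsClosedImmersion.of_comp _ (CohB1.thickι f I (n + 1))
  haveI : Surjective (CohB1.thickTrans f I n) := ⟨fun x => by
    obtain ⟨x', hx'⟩ : CohB1.thickι f I (n + 1) x ∈ Set.range (CohB1.thickι f I n) := by
      refine (Scheme.Pullback.range_fst f (CohB1.specQuot I n)).ge ?_
      rw [range_specQuot, ← range_specQuot I (n + 1)]
      exact (Scheme.Pullback.range_fst f (CohB1.specQuot I (n + 1))).le ⟨x, rfl⟩
    refine ⟨x', (CohB1.thickι f I (n + 1)).isClosedEmbedding.injective ?_⟩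
    rw [← hx', ← Scheme.Hom.comp_apply, thickTrans_ι]⟩
  exact Groth.Agent.S0289.result _

/-- The first thickening is the closed part. -/
noncomputable def thickZeroTo :
    CohB1.thick f I 0 ⟶ pullback f (Spec.map (CommRingCat.ofHom (Ideal.Quotient.mk I))) :=
  pullback.lift (CohB1.thickι f I 0)
    (CohB1.thickToBase f I 0 ≫ Spec.map (CommRingCat.ofHom (Ideal.quotEquivOfEq (pow_one I).symm).toRingHom)) (by
      rw [pullback.condition, Category.assoc, ← Spec.map_comp]
      rfl)

theorem thickZeroTo_fst : thickZeroTo I f ≫ pullback.fst _ _ = CohB1.thickι f I 0 := pullback.lift_fst _ _ _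

theorem isIso_thickZeroTo : IsIso (thickZeroTo I f) := by
  refine ⟨pullback.lift (pullback.fst _ _)
    (pullback.snd _ _ ≫ Spec.map (CommRingCat.ofHom (Ideal.quotEquivOfEq (pow_one I).symm).symm.toRingHom)) ?_, ?_, ?_⟩
  · rw [pullback.condition, Category.assoc]
    show _ = _ ≫ Spec.map _ ≫ Spec.map _
    rw [← Spec.map_comp]
    rfl
  · refine pullback.hom_ext ?_ ?_
    · simp [thickZeroTo]
    · simp only [thickZeroTo, Category.assoc, Category.id_comp, pullback.lift_snd, pullback.lift_snd_assoc]
      rw [← Spec.map_comp, ← CommRingCat.ofHom_comp, RingEquiv.toRingHom_comp_symm_toRingHom, CommRingCat.ofHom_id,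
        Spec.map_id, Category.comp_id]
  · refine pullback.hom_ext ?_ ?_
    · simp [thickZeroTo]
    · simp only [thickZeroTo, Category.assoc, Category.id_comp, pullback.lift_snd, pullback.lift_snd_assoc]
      rw [← Spec.map_comp, ← CommRingCat.ofHom_comp, RingEquiv.symm_toRingHom_comp_toRingHom, CommRingCat.ofHom_id,
        Spec.map_id, Category.comp_id]

/-- A compatible system of covers of the thickenings. -/
noncomputable def coverSeq (V₀ : FEt.Cat (pullback f (Spec.map (CommRingCat.ofHom (Ideal.Quotient.mk I))))) :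
    ∀ n, FEt.Cat (CohB1.thick f I n)
  | 0 => (FEt.restrict (thickZeroTo I f)).obj V₀
  | n + 1 =>
    haveI := isEquivalence_restrict_thickTrans I f n
    (FEt.restrict (CohB1.thickTrans f I n)).objPreimage (coverSeq V₀ n)

end

variable {A : Type u} [CommRing A] [IsNoetherianRing A] (I : Ideal A) [IsAdicComplete I A] {X : Scheme.{u}}
  (f : X ⟶ Spec (CommRingCat.of A)) [IsProper f]

/-- Covers of the closed part of a proper scheme over a complete Noetherian ring lift. -/
theorem restrict_essSurj_of_adicComplete :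
    (FEt.restrict (pullback.fst f (Spec.map (CommRingCat.ofHom (Ideal.Quotient.mk I))))).EssSurj := by
  refine ⟨fun V₀ => ?_⟩
  haveI := isIso_thickZeroTo I f
  haveI hE : ∀ n, (FEt.restrict (CohB1.thickTrans f I n)).IsEquivalence := isEquivalence_restrict_thickTrans I f
  let Y := coverSeq I f V₀
  let ε : ∀ n, (FEt.restrict (CohB1.thickTrans f I n)).obj (Y (n + 1)) ≅ Y n := fun n =>
    (FEt.restrict (CohB1.thickTrans f I n)).objObjPreimageIso (Y n)
  let t : ∀ n, (Y n).left ⟶ (Y (n + 1)).left := fun n => (ε n).inv.left ≫ pullback.fst _ _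
  have ht : ∀ n, IsPullback (t n) (Y n).hom (Y (n + 1)).hom (CohB1.thickTrans f I n) := fun n => by
    haveI : IsIso (ε n).inv.left :=
      inferInstanceAs (IsIso ((MorphismProperty.Over.forget FEt.prop ⊤ _ ⋙ Over.forget _).map (ε n).inv))
    have h1 : IsPullback (ε n).inv.left (Y n).hom
        (pullback.snd (Y (n + 1)).hom (CohB1.thickTrans f I n)) (𝟙 _) := by
      refine IsPullback.of_horiz_isIso ⟨?_⟩
      exact (MorphismProperty.Over.w (ε n).inv).trans (Category.comp_id _).symm
    simpa [t] using h1.paste_horiz (IsPullback.of_hasPullback (Y (n + 1)).hom (CohB1.thickTrans f I n))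
  have hfin : ∀ n, IsFinite (Y n).hom := fun n => (Y n).prop.1
  haveI := hfin 0
  haveI : IsProper (CohB1.thickToBase f I 0) := MorphismProperty.pullback_snd _ _ ‹IsProper f›
  obtain ⟨W, i, w, hi, -, -, hw⟩ := Groth.Agent.S0041.result A I f (fun n => (Y n).left) (fun n => (Y n).hom) t
    hfin ht (inferInstanceAs (IsProper ((Y 0).hom ≫ CohB1.thickToBase f I 0)))
  have hie : Etale i := etale_of_thickenings f i _ _ (fun n => (Y n).prop.2) w hw
  let Wc : FEt.Cat X := MorphismProperty.Over.mk ⊤ i ⟨hi, hie⟩
  let e₀ : (FEt.restrict (CohB1.thickι f I 0)).obj Wc ≅ (FEt.restrict (thickZeroTo I f)).obj V₀ :=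
    (MorphismProperty.Over.isoMk (hw 0).isoPullback (hw 0).isoPullback_hom_snd : Y 0 ≅ _).symm
  haveI := Groth.Agent.S0289.result (thickZeroTo I f)
  exact ⟨Wc, ⟨(FEt.restrict (thickZeroTo I f)).preimageIso
    (((restrictCompIso _ _ _ (thickZeroTo_fst I f)).app Wc).symm ≪≫ e₀)⟩⟩

end Groth.Agent.FEtStein
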