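import Groth.Agent.FEtStein.EtaleNearClosed
import Groth.Prelude.Def_CohB1
import Groth.Prelude.Def_FEt
import Groth.Agent.Et18.ProperClopen.Main

/-!
# A finite morphism étale on all thickenings is étale
-/

set_option autoImplicit false
set_option linter.style.haveILetI false
set_option backward.isDefEq.respectTransparency.types false
set_option backward.isDefEq.respectTransparency false
universe u

open CategoryTheory CategoryTheory.Limits AlgebraicGeometry TopologicalSpace
open scoped TensorProduct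

namespace Groth.Agent.FEtStein

/-- A finite morphism to a proper scheme over a complete Noetherian ring which is étale over all
thickenings is étale. -/
theorem etale_of_thickenings {A : Type u} [CommRing A] [IsNoetherianRing A] {I : Ideal A} [IsAdicComplete I A]
    {X : Scheme.{u}} (f : X ⟶ Spec (CommRingCat.of A)) [IsProper f] {W : Scheme.{u}} (i : W ⟶ X) [IsFinite i]
    (Y : ℕ → Scheme.{u}) (y : ∀ n, Y n ⟶ CohB1.thick f I n) (hy : ∀ n, Etale (y n)) (w : ∀ n, Y n ⟶ W)
    (hw : ∀ n, IsPullback (w n) (y n) i (CohB1.thickι f I n)) : Etale i := by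
  let E : Set W := {z | ∃ U : W.Opens, z ∈ U ∧ Etale (U.ι ≫ i)}
  have hE : IsOpen E := isOpen_iff_forall_mem_open.mpr fun z ⟨U, hz, hU⟩ =>
    ⟨U, fun z' hz' => ⟨U, hz', hU⟩, U.isOpen, hz⟩
  suffices hEu : E = Set.univ by
    choose U hzU hU using fun z : W => (show z ∈ E by rw [hEu]; trivial)
    exact IsZariskiLocalAtSource.of_openCover (P := @Etale)
      (W.openCoverOfIsOpenCover U (TopologicalSpace.IsOpenCover.mk (eq_top_iff.mpr fun z _ => Opens.mem_iSup.mpr ⟨z, hzU z⟩)))
      fun z => hU z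
  -- the locus contains the closed part
  suffices key : ∀ z : W, f (i z) ∈ PrimeSpectrum.zeroLocus (I : Set A) → z ∈ E by
    by_contra hne
    obtain ⟨p, ⟨z, hz, rfl⟩, hp⟩ := Groth.Agent.Et18.ProperClopen.exists_mem_zeroLocus_of_isClosed I
      ((i ≫ f).isClosedMap _ hE.isClosed_compl)
      ((Set.nonempty_compl.mpr hne).image _)
    exact hz (key z hp)
  intro z hz
  obtain ⟨V, hV, hzV, -⟩ := exists_isAffineOpen_mem_and_subset (x := i z) (U := ⊤) trivial
  let U := i ⁻¹ᵁ V
  have hU : IsAffineOpen U := hV.preimage i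
  let sR := i.app V
  letI : Algebra Γ(X, V) Γ(W, U) := sR.hom.toAlgebra
  haveI : Module.Finite Γ(X, V) Γ(W, U) := RingHom.finite_algebraMap.mp (IsFinite.finite_app i V hV)
  haveI : IsLocallyNoetherian X := LocallyOfFiniteType.isLocallyNoetherian f
  haveI : IsNoetherianRing Γ(X, V) := IsLocallyNoetherian.component_noetherian ⟨V, hV⟩
  let φ : CommRingCat.of A ⟶ Γ(X, V) := Spec.preimage (hV.fromSpec ≫ f)
  have hφ : Spec.map φ = hV.fromSpec ≫ f := Spec.map_preimage _
  let J : Ideal Γ(X, V) := I.map φ.hom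
  have hsq : IsPullback (Spec.map sR) hU.fromSpec hV.fromSpec i := by
    have hc : hU.fromSpec ≫ i = Spec.map sR ≫ hV.fromSpec := by
      rw [← IsAffineOpen.SpecMap_appLE_fromSpec i hV hU le_rfl, Scheme.Hom.appLE_eq_app]
    refine IsOpenImmersion.isPullback _ _ _ _ hc ?_
    rw [IsAffineOpen.opensRange_fromSpec, IsAffineOpen.opensRange_fromSpec]
  have h : ∀ n : ℕ, Algebra.Etale (Γ(X, V) ⧸ J ^ (n + 1)) ((Γ(X, V) ⧸ J ^ (n + 1)) ⊗[Γ(X, V)] Γ(W, U)) := fun n => by
    let mkJ := CommRingCat.ofHom (Ideal.Quotient.mk (J ^ (n + 1)))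
    let φn : A ⧸ I ^ (n + 1) →+* Γ(X, V) ⧸ J ^ (n + 1) := Ideal.quotientMap (J ^ (n + 1)) φ.hom
      (by rw [← Ideal.map_le_iff_le_comap, Ideal.map_pow])
    let l : Spec (CommRingCat.of (Γ(X, V) ⧸ J ^ (n + 1))) ⟶ CohB1.thick f I n :=
      pullback.lift (Spec.map mkJ ≫ hV.fromSpec) (Spec.map (CommRingCat.ofHom φn)) (by
        rw [Category.assoc, ← hφ, CohB1.specQuot, ← Spec.map_comp, ← Spec.map_comp]
        congr 1)
    have hl : l ≫ CohB1.thickι f I n = Spec.map mkJ ≫ hV.fromSpec := pullback.lift_fst _ _ _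
    haveI := hy n
    haveI hl' : Etale (pullback.snd (y n) l) := MorphismProperty.pullback_snd _ _ ‹_›
    have hbig : IsPullback (pullback.fst (y n) l ≫ w n) (pullback.snd (y n) l) i (l ≫ CohB1.thickι f I n) :=
      (IsPullback.of_hasPullback (y n) l).paste_horiz (hw n)
    -- compare
    have hbig' : IsPullback (pullback.fst (y n) l ≫ w n) (pullback.snd (y n) l) i (Spec.map mkJ ≫ hV.fromSpec) := by
      rw [← hl]; exact hbig
    have hT' : IsPullback (Spec.map (CommRingCat.ofHom (Algebra.TensorProduct.includeRight :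
        Γ(W, U) →ₐ[Γ(X, V)] (Γ(X, V) ⧸ J ^ (n + 1)) ⊗[Γ(X, V)] Γ(W, U)).toRingHom) ≫ hU.fromSpec)
        (Spec.map (CommRingCat.ofHom Algebra.TensorProduct.includeLeftRingHom)) i (Spec.map mkJ ≫ hV.fromSpec) :=
      (isPullback_SpecMap_of_isPushout _ _ _ _
        (CommRingCat.isPushout_tensorProduct Γ(X, V) (Γ(X, V) ⧸ J ^ (n + 1)) Γ(W, U))).flip.paste_horiz hsq.flip
    haveI : Etale (Spec.map (CommRingCat.ofHom (Algebra.TensorProduct.includeLeftRingHom :
        Γ(X, V) ⧸ J ^ (n + 1) →+* (Γ(X, V) ⧸ J ^ (n + 1)) ⊗[Γ(X, V)] Γ(W, U)))) := by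
      rw [← hT'.isoIsPullback_hom_snd _ _ hbig']
      infer_instance
    exact RingHom.etale_algebraMap.1
      ((HasRingHomProperty.Spec_iff (P := @Etale) (φ := CommRingCat.ofHom
        (algebraMap (Γ(X, V) ⧸ J ^ (n + 1)) ((Γ(X, V) ⧸ J ^ (n + 1)) ⊗[Γ(X, V)] Γ(W, U))))).1 ‹_›)
  let q := hU.primeIdealOf ⟨z, hzV⟩
  have hqz : hU.fromSpec q = z := hU.fromSpec_primeIdealOf _
  have hq : J.map (algebraMap Γ(X, V) Γ(W, U)) ≤ q.asIdeal := by
    rw [Ideal.map_le_iff_le_comap, Ideal.map_le_iff_le_comap]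
    intro a ha
    have h1 : Spec.map φ (Spec.map sR q) = f (i z) := by
      rw [hφ, ← hqz, Scheme.Hom.comp_apply, ← Scheme.Hom.comp_apply (Spec.map sR), hsq.w]
      rfl
    have h2 : a ∈ (Spec.map φ (Spec.map sR q)).asIdeal := by rw [h1]; exact hz ha
    exact h2
  obtain ⟨g, hg, het⟩ := exists_etale_away_of_thickenings J h q.asIdeal hq
  let ψ := CommRingCat.ofHom (algebraMap Γ(W, U) (Localization.Away g))
  haveI : IsOpenImmersion (Spec.map ψ) := IsOpenImmersion.of_isLocalization g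
  let j := Spec.map ψ ≫ hU.fromSpec
  have hj : Etale (j ≫ i) := by
    have e : j ≫ i = Spec.map (CommRingCat.ofHom (algebraMap Γ(X, V) (Localization.Away g))) ≫ hV.fromSpec := by
      rw [Category.assoc, ← hsq.w, IsScalarTower.algebraMap_eq Γ(X, V) Γ(W, U), CommRingCat.ofHom_comp,
        Spec.map_comp, Category.assoc]
      rfl
    rw [e]
    haveI : Etale (Spec.map (CommRingCat.ofHom (algebraMap Γ(X, V) (Localization.Away g)))) :=
      (HasRingHomProperty.Spec_iff (P := @Etale)).2 (RingHom.etale_algebraMap.2 het)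
    infer_instance
  refine ⟨j.opensRange, ?_, ?_⟩
  · obtain ⟨q', hq'⟩ : q ∈ Set.range (Spec.map ψ) := by
      refine (PrimeSpectrum.localization_away_comap_range (Localization.Away g) g).ge ?_
      exact hg
    refine ⟨q', (Scheme.Hom.comp_apply _ _ _).trans ((congrArg (fun t => hU.fromSpec t) hq').trans hqz)⟩
  · have e : (IsOpenImmersion.isoOfRangeEq j.opensRange.ι j (by simp)).hom ≫ j = j.opensRange.ι :=
      IsOpenImmersion.isoOfRangeEq_hom_fac _ _ _
    rw [← e, Category.assoc]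
    infer_instance

end Groth.Agent.FEtStein
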