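import Mathlib.RingTheory.Etale.Locus
import Mathlib.RingTheory.Kaehler.TensorProduct
import Mathlib.RingTheory.Finiteness.Nakayama
import Groth.Agent.FlatCrit.Tor
import Groth.Agent.FlatMor12.FlatUnramified

/-!
# Finite algebras étale modulo all powers of an ideal are étale near its zero locus
-/

set_option autoImplicit false
set_option linter.style.haveILetI false
universe u

open TensorProduct

namespace Groth.Agent.FEtStein

section

variable {R S : Type u} [CommRing R] [CommRing S] [Algebra R S] [Module.Finite R S] (J : Ideal R)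

attribute [local instance] Algebra.TensorProduct.rightAlgebra

/-- If the reduction modulo `J` is unramified, an element congruent to `1` kills the differentials. -/
theorem exists_smul_kaehler_eq_zero (h : Algebra.FormallyUnramified (R ⧸ J) ((R ⧸ J) ⊗[R] S)) :
    ∃ r : R, r - 1 ∈ J ∧ ∀ x : Ω[S⁄R], r • x = 0 := by
  haveI : Module.Finite R Ω[S⁄R] := Module.Finite.trans S _
  haveI : Subsingleton ((R ⧸ J) ⊗[R] Ω[S⁄R]) :=
    (KaehlerDifferential.tensorKaehlerEquivBase R (R ⧸ J) S ((R ⧸ J) ⊗[R] S)).injective.subsingleton
  have hle : (⊤ : Submodule R Ω[S⁄R]) ≤ J • ⊤ := by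
    haveI := (TensorProduct.quotTensorEquivQuotSMul Ω[S⁄R] J).symm.injective.subsingleton
    rw [top_le_iff, ← Submodule.Quotient.subsingleton_iff]
    infer_instance
  obtain ⟨r, hr, hr'⟩ := Submodule.exists_sub_one_mem_and_smul_eq_zero_of_fg_of_le_smul J ⊤ Module.Finite.fg_top hle
  exact ⟨r, hr, fun x => hr' x trivial⟩

end

/-- A finite algebra over a Noetherian ring which is étale modulo all powers of `J` is étale around the
zero locus of `J`. -/
theorem exists_etale_away_of_thickenings {R S : Type u} [CommRing R] [IsNoetherianRing R] [CommRing S] [Algebra R S]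
    [Module.Finite R S] (J : Ideal R) (h : ∀ n : ℕ, Algebra.Etale (R ⧸ J ^ (n + 1)) ((R ⧸ J ^ (n + 1)) ⊗[R] S))
    (q : Ideal S) [q.IsPrime] (hq : J.map (algebraMap R S) ≤ q) :
    ∃ g ∉ q, Algebra.Etale R (Localization.Away g) := by
  haveI : IsNoetherianRing S := Algebra.FiniteType.isNoetherianRing R S
  haveI : Algebra.FinitePresentation R S := Algebra.FinitePresentation.of_finiteType.mp inferInstance
  let Sq := Localization.AtPrime q
  haveI : Module.Flat R Sq := by
    have hQ : ∀ n, FlatCrit.QuotFlat R Sq (J ^ n) := by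
      rintro (- | n)
      · intro A B _ _ _ _ i hB hi
        have hB0 : Subsingleton B := ⟨fun a b => by
          have ha := hB (1 : R) (by rw [pow_zero, Ideal.one_eq_top]; exact Submodule.mem_top) a
          have hb := hB (1 : R) (by rw [pow_zero, Ideal.one_eq_top]; exact Submodule.mem_top) b
          rw [one_smul] at ha hb
          rw [ha, hb]⟩
        haveI : Subsingleton A := hi.subsingleton
        exact Function.injective_of_subsingleton _
      · have := h n
        exact ((FlatCrit.quotFlat_of_flat (M := S) (J ^ (n + 1)) inferInstance).baseChange Sq).of_linearEquiv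
          ((AlgebraTensorModule.rid S S Sq).restrictScalars R)
    refine FlatCrit.flat_of_quotFlat_pow (S := Sq) J ?_ hQ
    rw [IsLocalRing.jacobson_eq_maximalIdeal _ bot_ne_top, IsScalarTower.algebraMap_eq R S Sq, ← Ideal.map_map,
      ← Localization.AtPrime.map_eq_maximalIdeal]
    exact Ideal.map_mono hq
  haveI : Algebra.FormallyUnramified R Sq := by
    haveI : Algebra.Etale (R ⧸ J) ((R ⧸ J) ⊗[R] S) := by
      have := h 0
      rwa [zero_add, pow_one] at this
    obtain ⟨r, hr, hr0⟩ := exists_smul_kaehler_eq_zero (S := S) J inferInstance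
    have hrq : algebraMap R S r ∉ q := fun hmem => by
      have h1 : algebraMap R S (r - 1) ∈ q := hq (Ideal.mem_map_of_mem _ hr)
      rw [map_sub, map_one] at h1
      have h2 : (1 : S) ∈ q := by
        have := q.sub_mem hmem h1
        rwa [sub_sub_cancel] at this
      exact Ideal.IsPrime.ne_top ‹_› ((Ideal.eq_top_iff_one _).mpr h2)
    rw [Algebra.formallyUnramified_iff]
    have hloc := KaehlerDifferential.isLocalizedModule_map R S Sq q.primeCompl
    refine ⟨fun a b => ?_⟩
    suffices ∀ z : Ω[Sq⁄R], z = 0 by rw [this a, this b]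
    intro z
    obtain ⟨⟨x, s⟩, hx⟩ := IsLocalizedModule.surj q.primeCompl (KaehlerDifferential.map R R S Sq) z
    have hs : IsUnit (algebraMap S Sq s) := IsLocalization.map_units Sq s
    have hu : IsUnit (algebraMap R Sq r) := by
      rw [IsScalarTower.algebraMap_apply R S Sq]
      exact IsLocalization.map_units (M := q.primeCompl) Sq ⟨_, hrq⟩
    have h1 : r • ((s : S) • z) = 0 := by
      show r • (s • z) = 0
      rw [hx, ← LinearMap.map_smul_of_tower, hr0, map_zero]
    rw [← IsScalarTower.algebraMap_smul Sq r, hu.smul_eq_zero, ← IsScalarTower.algebraMap_smul Sq (s : S),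
      hs.smul_eq_zero] at h1
    exact h1
  haveI : Algebra.EssFiniteType R Sq := Algebra.EssFiniteType.comp R S Sq
  haveI : Algebra.IsEtaleAt R q := Groth.Agent.FlatMor12.formallyEtale_of_flat_unramified R Sq
  exact Algebra.exists_etale_of_isEtaleAt q

end Groth.Agent.FEtStein
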