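import Groth.Agent.FBaseLib.Geom
import Groth.Agent.FlatMor12.GeomDescent
import Groth.Agent.Coherent.NormalPush
import Mathlib.AlgebraicGeometry.Morphisms.Proper
import Mathlib.AlgebraicGeometry.Geometrically.Reduced
import Mathlib.RingTheory.Etale.Field
import Mathlib.RingTheory.Etale.Descent
import Mathlib.RingTheory.Artinian.Module
import Mathlib.FieldTheory.IsAlgClosed.AlgebraicClosure
import Mathlib.AlgebraicGeometry.Morphisms.Separated

/-!
# Functions on a geometrically reduced proper scheme over a field
-/

set_option autoImplicit false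
set_option linter.style.haveILetI false
set_option backward.isDefEq.respectTransparency.types false
set_option backward.isDefEq.respectTransparency false
universe u

open CategoryTheory CategoryTheory.Limits AlgebraicGeometry TopologicalSpace Opposite
open scoped TensorProduct

namespace Groth.Agent.FEtStein

/-- Reduced geometric fibres give geometric reducedness. -/
theorem geometricallyReduced_of_algClosed {X S : Scheme.{u}} (f : X ⟶ S)
    (h : ∀ (Ω : Type u) [Field Ω] [IsAlgClosed Ω] (σ : Spec (CommRingCat.of Ω) ⟶ S),
      AlgebraicGeometry.IsReduced (pullback f σ)) :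
    GeometricallyReduced f := by
  refine ⟨fun K _ y Z fst snd hK => ?_⟩
  let a := Spec.map (CommRingCat.ofHom (algebraMap K (AlgebraicClosure K)))
  haveI : Surjective a := ⟨fun z => ⟨(IsLocalRing.closedPoint (AlgebraicClosure K) : PrimeSpectrum (AlgebraicClosure K)),
    Subsingleton.elim (α := PrimeSpectrum K) _ _⟩⟩
  haveI : Flat a := (HasRingHomProperty.Spec_iff (P := @Flat)).mpr
    (show (algebraMap K (AlgebraicClosure K)).Flat from RingHom.flat_algebraMap_iff.mpr inferInstance)
  haveI : Flat (pullback.fst snd a) := MorphismProperty.pullback_fst _ _ ‹Flat a›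
  haveI : Surjective (pullback.fst snd a) := MorphismProperty.pullback_fst _ _ ‹Surjective a›
  have e : IsPullback (pullback.fst snd a ≫ fst) (pullback.snd snd a) f (a ≫ y) :=
    (IsPullback.of_hasPullback snd a).paste_horiz hK
  haveI := h (AlgebraicClosure K) (a ≫ y)
  haveI : AlgebraicGeometry.IsReduced (pullback snd a) :=
    AlgebraicGeometry.isReduced_of_isOpenImmersion e.isoPullback.hom
  exact Groth.Agent.FlatMor12.isReduced_of_flat_surjective (pullback.fst snd a)

/-- A finite reduced algebra over an algebraically closed field is étale. -/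
theorem etale_of_isReduced (K C : Type u) [Field K] [IsAlgClosed K] [CommRing C] [Algebra K C]
    [Module.Finite K C] [_root_.IsReduced C] : Algebra.Etale K C := by
  haveI : IsArtinianRing C := IsArtinianRing.of_finite K C
  haveI : ∀ m : MaximalSpectrum C, m.asIdeal.IsMaximal := fun m => m.isMaximal
  letI : ∀ m : MaximalSpectrum C, Field (C ⧸ m.asIdeal) := fun m => Ideal.Quotient.field _
  let e : C ≃ₐ[K] ∀ m : MaximalSpectrum C, C ⧸ m.asIdeal :=
    AlgEquiv.ofRingEquiv (f := IsArtinianRing.equivPi C) fun r => rfl
  haveI : Finite (MaximalSpectrum C) := inferInstance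
  exact (Algebra.Etale.iff_exists_algEquiv_prod K C).mpr
    ⟨MaximalSpectrum C, inferInstance, fun m => C ⧸ m.asIdeal, inferInstance, inferInstance, e,
      fun m => ⟨inferInstance, inferInstance⟩⟩

/-- Functions on a geometrically reduced proper scheme over a field form an étale algebra. -/
theorem etale_global (K : Type u) [Field K] {X : Scheme.{u}} (f : X ⟶ Spec (CommRingCat.of K)) [IsProper f]
    [GeometricallyReduced f] :
    ((Scheme.ΓSpecIso (CommRingCat.of K)).inv ≫ f.appTop).hom.Etale := by
  let C := Γ(X, ⊤)
  let φ := (Scheme.ΓSpecIso (CommRingCat.of K)).inv ≫ f.appTop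
  letI : Algebra K C := φ.hom.toAlgebra
  haveI : Module.Finite K C := by
    have h1 : f.appTop.hom.Finite := Groth.Agent.Coherent.finite_app_of_isProper f (isAffineOpen_top _)
    have h2 : φ.hom.Finite := h1.comp (RingHom.Finite.of_surjective _
      (Scheme.ΓSpecIso (CommRingCat.of K)).symm.commRingCatIsoToRingEquiv.surjective)
    exact RingHom.finite_algebraMap.mp h2
  let L := AlgebraicClosure K
  let a := Spec.map (CommRingCat.ofHom (algebraMap K L))
  haveI : Flat a := (HasRingHomProperty.Spec_iff (P := @Flat)).mpr
    (show (algebraMap K L).Flat from RingHom.flat_algebraMap_iff.mpr inferInstance)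
  haveI : CompactSpace X := QuasiCompact.compactSpace_of_compactSpace f
  haveI : QuasiSeparatedSpace X := quasiSeparatedSpace_of_quasiSeparated f
  haveI : AlgebraicGeometry.IsReduced (pullback f a) :=
    GeometricallyReduced.geometrically_isReduced (f := f) a _ _ (IsPullback.of_hasPullback f a)
  have H := (IsPullback.of_hasPullback f a)
  have hi := isIso_pushoutSection_of_isQuasiSeparated_of_flat_right H (US := ⊤) (UT := ⊤) (UX := ⊤) (UY := ⊤)
    (by simp) (by simp) (by simp) (isAffineOpen_top _) (isAffineOpen_top _) isCompact_univ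
    isQuasiSeparated_univ
  have hp := (isIso_pushoutSection_iff ..).1 hi
  have hp' : IsPushout φ (CommRingCat.ofHom (algebraMap K L)) ((pullback.fst f a).appLE ⊤ ⊤ le_top)
      ((Scheme.ΓSpecIso (CommRingCat.of L)).inv ≫ (pullback.snd f a).appLE ⊤ ⊤ le_top) := by
    refine hp.of_iso (Scheme.ΓSpecIso (CommRingCat.of K)) (Iso.refl _) (Scheme.ΓSpecIso (CommRingCat.of L))
      (Iso.refl _) ?_ ?_ ?_ ?_
    all_goals simp [φ, a, Scheme.Hom.appTop, Scheme.Hom.appLE, Scheme.ΓSpecIso_naturality]
  let e := (CommRingCat.isPushout_tensorProduct K C L).isoIsPushout _ _ hp'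
  haveI : _root_.IsReduced (C ⊗[K] L) := isReduced_of_injective e.hom.hom
    (ConcreteCategory.bijective_of_isIso e.hom).1
  haveI : _root_.IsReduced (L ⊗[K] C) := isReduced_of_injective (Algebra.TensorProduct.comm K L C).toRingHom
    (Algebra.TensorProduct.comm K L C).injective
  haveI : Algebra.Etale L (L ⊗[K] C) := etale_of_isReduced L _
  haveI : Module.FaithfullyFlat K L := inferInstance
  exact RingHom.etale_algebraMap.mpr (Algebra.Etale.of_etale_tensorProduct_of_faithfullyFlat (T := L))

end Groth.Agent.FEtStein
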