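import Groth.Agent.FEtQuot.FieldLimit

/-!
# Base changes of a fixed morphism along a system of bases
-/

set_option autoImplicit false
set_option linter.style.haveILetI false
set_option backward.isDefEq.respectTransparency.types false
set_option backward.isDefEq.respectTransparency false
universe u

open CategoryTheory CategoryTheory.Limits AlgebraicGeometry TopologicalSpace Opposite

namespace Groth.Agent.FEtStein.PullDiag

variable {X S : Scheme.{u}} (g : X ⟶ S) {J : Type u} [SmallCategory J]
  {D : J ⥤ Scheme.{u}} (t : D ⟶ (Functor.const J).obj S)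

/-- The map of base changes induced by a map of bases. -/
noncomputable def pbMap {T T' : Scheme.{u}} (u : T ⟶ T') {a : T ⟶ S} {a' : T' ⟶ S} (h : u ≫ a' = a) :
    pullback g a ⟶ pullback g a' :=
  pullback.lift (pullback.fst _ _) (pullback.snd _ _ ≫ u) (by rw [Category.assoc, h, pullback.condition])

@[reassoc (attr := simp)]
theorem pbMap_fst {T T' : Scheme.{u}} (u : T ⟶ T') {a : T ⟶ S} {a' : T' ⟶ S} (h : u ≫ a' = a) :
    pbMap g u h ≫ pullback.fst g a' = pullback.fst g a := pullback.lift_fst _ _ _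

@[reassoc (attr := simp)]
theorem pbMap_snd {T T' : Scheme.{u}} (u : T ⟶ T') {a : T ⟶ S} {a' : T' ⟶ S} (h : u ≫ a' = a) :
    pbMap g u h ≫ pullback.snd g a' = pullback.snd g a ≫ u := pullback.lift_snd _ _ _

theorem pbMap_comp {T T' T'' : Scheme.{u}} (u : T ⟶ T') (v : T' ⟶ T'') {a : T ⟶ S} {a' : T' ⟶ S}
    {a'' : T'' ⟶ S} (h : u ≫ a' = a) (h' : v ≫ a'' = a') :
    pbMap g u h ≫ pbMap g v h' = pbMap g (u ≫ v) (by rw [Category.assoc, h', h]) := by
  apply pullback.hom_ext <;> simp

theorem isAffineHom_pbMap {T T' : Scheme.{u}} (u : T ⟶ T') [IsAffineHom u] {a : T ⟶ S} {a' : T' ⟶ S}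
    (h : u ≫ a' = a) : IsAffineHom (pbMap g u h) := by
  subst h
  refine MorphismProperty.of_isPullback (P := @IsAffineHom) (IsPullback.of_right ?_ (pbMap_snd g u rfl)
    (IsPullback.of_hasPullback g a')).flip ‹_›
  simpa using IsPullback.of_hasPullback g (u ≫ a')

/-- The system of base changes. -/
noncomputable def diag : J ⥤ Scheme.{u} where
  obj i := pullback g (t.app i)
  map {i j} φ := pbMap g (D.map φ) ((t.naturality φ).trans (Category.comp_id _))
  map_id i := by apply pullback.hom_ext <;> simp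
  map_comp φ ψ := by apply pullback.hom_ext <;> simp

variable (c : Cone D) (s : c.pt ⟶ S) (hs : ∀ i, c.π.app i ≫ t.app i = s)

/-- The cone over the system of base changes. -/
noncomputable def cone : Cone (diag g t) where
  pt := pullback g s
  π :=
    { app := fun i => pbMap g (c.π.app i) (hs i)
      naturality := fun i j φ => by
        dsimp [diag]
        apply pullback.hom_ext <;> simp [c.w φ] }

theorem nonempty_isLimit_cone [IsCofiltered J] (hc : IsLimit c) : Nonempty (IsLimit (cone g t c s hs)) := by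
  obtain ⟨i₀⟩ := (inferInstance : IsCofiltered J).nonempty
  let sD : Cone (diag g t) → Cone D := fun σ =>
    { pt := σ.pt
      π :=
        { app := fun i => σ.π.app i ≫ pullback.snd g (t.app i)
          naturality := fun i j φ => by
            dsimp
            rw [Category.id_comp, ← σ.w φ, Category.assoc, Category.assoc]
            exact congrArg (σ.π.app i ≫ ·) (pbMap_snd g (D.map φ) ((t.naturality φ).trans (Category.comp_id _))) } }
  have hstep : ∀ (σ : Cone (diag g t)) {i j : J} (φ : i ⟶ j),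
      σ.π.app j ≫ pullback.fst g (t.app j) = σ.π.app i ≫ pullback.fst g (t.app i) := fun σ i j φ => by
    rw [← σ.w φ, Category.assoc]
    exact congrArg (σ.π.app i ≫ ·) (pbMap_fst g (D.map φ) ((t.naturality φ).trans (Category.comp_id _)))
  have hfst : ∀ (σ : Cone (diag g t)) (i : J),
      σ.π.app i ≫ pullback.fst g (t.app i) = σ.π.app i₀ ≫ pullback.fst g (t.app i₀) := fun σ i => by
    obtain ⟨k, φ, ψ, -⟩ := IsCofilteredOrEmpty.cone_objs i i₀
    rw [hstep σ φ, hstep σ ψ]
  have hw : ∀ σ : Cone (diag g t), (σ.π.app i₀ ≫ pullback.fst g (t.app i₀)) ≫ g = hc.lift (sD σ) ≫ s := fun σ => by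
    rw [← hs i₀, hc.fac_assoc, Category.assoc, pullback.condition]
    exact (Category.assoc _ _ _).symm
  refine ⟨{ lift := fun σ => pullback.lift _ _ (hw σ), fac := fun σ i => ?_, uniq := fun σ m hm => ?_ }⟩
  · apply pullback.hom_ext
    · rw [Category.assoc]
      show _ ≫ pbMap g (c.π.app i) (hs i) ≫ _ = _
      rw [pbMap_fst, pullback.lift_fst]
      exact (hfst σ i).symm
    · rw [Category.assoc]
      show _ ≫ pbMap g (c.π.app i) (hs i) ≫ _ = _
      rw [pbMap_snd, pullback.lift_snd_assoc]
      exact hc.fac (sD σ) i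
  · apply pullback.hom_ext
    · rw [pullback.lift_fst, ← hm i₀, Category.assoc]
      exact congrArg (m ≫ ·) (pbMap_fst g (c.π.app i₀) (hs i₀)).symm
    · rw [pullback.lift_snd]
      refine hc.hom_ext fun i => ?_
      rw [hc.fac, Category.assoc]
      show _ = σ.π.app i ≫ pullback.snd g (t.app i)
      rw [← hm i, Category.assoc]
      exact congrArg (m ≫ ·) (pbMap_snd g (c.π.app i) (hs i)).symm

/-- A cover of the limit comes from a stage. -/
theorem exists_cover [IsCofiltered J] [hD : ∀ {i j} (φ : i ⟶ j), IsAffineHom (D.map φ)]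
    [∀ i, CompactSpace ↥(pullback g (t.app i))] [∀ i, QuasiSeparatedSpace ↥(pullback g (t.app i))]
    (hc : IsLimit c) (V : FEt.Cat (pullback g s)) :
    ∃ (i : J) (W : FEt.Cat (pullback g (t.app i))),
      Nonempty ((FEt.restrict (pbMap g (c.π.app i) (hs i))).obj W ≅ V) := by
  haveI : ∀ {i j} (φ : i ⟶ j), IsAffineHom ((diag g t).map φ) := fun φ =>
    haveI := hD φ
    isAffineHom_pbMap g (D.map φ) ((t.naturality φ).trans (Category.comp_id _))
  haveI : ∀ i, CompactSpace ↥((diag g t).obj i) := fun i => ‹∀ i, CompactSpace ↥(pullback g (t.app i))› i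
  haveI : ∀ i, QuasiSeparatedSpace ↥((diag g t).obj i) := fun i =>
    ‹∀ i, QuasiSeparatedSpace ↥(pullback g (t.app i))› i
  obtain ⟨hl⟩ := nonempty_isLimit_cone g t c s hs hc
  haveI : IsFinite (show V.left ⟶ (cone g t c s hs).pt from V.hom) := V.prop.1
  haveI : Etale (show V.left ⟶ (cone g t c s hs).pt from V.hom) := V.prop.2
  obtain ⟨i, W₀, w₀, q, h₁, h₂, sq⟩ :=
    Groth.Agent.FEtQuot.FieldLimit.exists_stage_finEt hl (show V.left ⟶ (cone g t c s hs).pt from V.hom)
  exact ⟨i, MorphismProperty.Over.mk ⊤ w₀ ⟨h₁, h₂⟩,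
    ⟨(MorphismProperty.Over.isoMk sq.isoPullback sq.isoPullback_hom_snd : V ≅ _).symm⟩⟩

end Groth.Agent.FEtStein.PullDiag
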