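import Mathlib.AlgebraicGeometry.Pullbacks
import Mathlib.AlgebraicGeometry.Morphisms.Affine
import Mathlib.RingTheory.Adjoin.FG
import Mathlib.Algebra.Category.Ring.FilteredColimits
import Mathlib.CategoryTheory.Limits.Types.Filtered

/-!
# The spectrum of an algebra as the limit over its finitely generated subalgebras, and modulo an ideal
-/

set_option autoImplicit false
set_option linter.style.haveILetI false
set_option backward.isDefEq.respectTransparency.types false
set_option backward.isDefEq.respectTransparency false
universe u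

open CategoryTheory CategoryTheory.Limits AlgebraicGeometry Opposite

namespace Groth.Agent.FEtStein.SubAlgDiag

variable (R : Type u) {S : Type u} [CommRing R] [CommRing S] [Algebra R S] (I : Ideal S)

/-- The finitely generated subalgebra. -/
abbrev sub (s : Finset S) : Subalgebra R S := Algebra.adjoin R (s : Set S)

theorem sub_mono {s t : Finset S} (h : s ≤ t) : sub R s ≤ sub R t :=
  Algebra.adjoin_mono (Finset.coe_subset.mpr h)

/-- The ideal induced on the subalgebra. -/
abbrev idl (s : Finset S) : Ideal (sub R s) := I.comap (sub R s).val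

/-- The system of finitely generated subalgebras modulo the induced ideals. -/
noncomputable def ringDiag : Finset S ⥤ CommRingCat.{u} where
  obj s := CommRingCat.of (sub R s ⧸ idl R I s)
  map {s t} h := CommRingCat.ofHom (Ideal.quotientMap (idl R I t) (Subalgebra.inclusion (sub_mono R (leOfHom h))).toRingHom
    (fun x hx => hx))
  map_id _ := by
    ext1; exact Ideal.Quotient.ringHom_ext (RingHom.ext fun x => rfl)
  map_comp _ _ := by
    ext1; exact Ideal.Quotient.ringHom_ext (RingHom.ext fun x => rfl)

/-- The map to the quotient of the whole algebra. -/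
noncomputable def toQuot (s : Finset S) : sub R s ⧸ idl R I s →+* S ⧸ I :=
  Ideal.quotientMap I (sub R s).val.toRingHom le_rfl

/-- The cocone. -/
noncomputable def ringCocone : Cocone (ringDiag R I) where
  pt := CommRingCat.of (S ⧸ I)
  ι :=
    { app := fun s => CommRingCat.ofHom (toQuot R I s)
      naturality := fun s t h => by
        ext1; exact Ideal.Quotient.ringHom_ext (RingHom.ext fun x => rfl) }

theorem nonempty_isColimit : Nonempty (IsColimit (ringCocone R I)) := by
  classical
  haveI : ReflectsColimit (ringDiag R I) (forget CommRingCat.{u}) := reflectsColimit_of_reflectsIsomorphisms _ _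
  refine ⟨isColimitOfReflects (forget CommRingCat.{u}) (Types.FilteredColimit.isColimitOf _ _ ?_ ?_)⟩
  · intro x
    obtain ⟨y, rfl⟩ := Ideal.Quotient.mk_surjective x
    exact ⟨{y}, Ideal.Quotient.mk _ ⟨y, Algebra.subset_adjoin (Finset.mem_coe.mpr (Finset.mem_singleton_self y))⟩, rfl⟩
  · intro i j xi xj h
    obtain ⟨a, rfl⟩ := Ideal.Quotient.mk_surjective xi
    obtain ⟨b, rfl⟩ := Ideal.Quotient.mk_surjective xj
    refine ⟨i ∪ j, homOfLE Finset.subset_union_left, homOfLE Finset.subset_union_right, ?_⟩
    have h' : (a : S) - (b : S) ∈ I := Ideal.Quotient.eq.mp h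
    exact Ideal.Quotient.eq.mpr h'

/-- The spectra. -/
noncomputable def specDiag : (Finset S)ᵒᵖ ⥤ Scheme.{u} := (ringDiag R I).op ⋙ Scheme.Spec

instance {i j : (Finset S)ᵒᵖ} (φ : i ⟶ j) : IsAffineHom ((specDiag R I).map φ) :=
  inferInstanceAs (IsAffineHom (Spec.map _))

/-- The cone. -/
noncomputable def specCone : Cone (specDiag R I) := Scheme.Spec.mapCone (ringCocone R I).op

theorem nonempty_isLimit : Nonempty (IsLimit (specCone R I)) :=
  ⟨isLimitOfPreserves Scheme.Spec (nonempty_isColimit R I).some.op⟩

/-- The structure maps to the base. -/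
noncomputable def str : specDiag R I ⟶ (Functor.const (Finset S)ᵒᵖ).obj (Spec (CommRingCat.of R)) where
  app s := Spec.map (CommRingCat.ofHom ((Ideal.Quotient.mk _).comp (algebraMap R (sub R s.unop))))
  naturality s t h := by
    show Spec.map _ ≫ Spec.map _ = _ ≫ 𝟙 _
    rw [Category.comp_id, ← Spec.map_comp]
    rfl

theorem π_str (s : (Finset S)ᵒᵖ) : (specCone R I).π.app s ≫ (str R I).app s =
    Spec.map (CommRingCat.ofHom ((Ideal.Quotient.mk I).comp (algebraMap R S))) := by
  show Spec.map _ ≫ Spec.map _ = _
  rw [← Spec.map_comp]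
  rfl

end Groth.Agent.FEtStein.SubAlgDiag
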