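import Groth.Agent.FEtStein.CompleteEssSurj
import Groth.Agent.FEtStein.PullDiag
import Groth.Agent.FEtStein.SubAlgDiag
import Groth.Agent.CAlgH.ApproximationPair
import Groth.Agent.HenselLib.Lift
import Mathlib.RingTheory.AdicCompletion.LocalRing

/-!
# Lifting covers through the completion and approximation
-/

set_option autoImplicit false
set_option linter.style.haveILetI false
set_option backward.isDefEq.respectTransparency.types false
set_option backward.isDefEq.respectTransparency false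
universe u

open CategoryTheory CategoryTheory.Limits AlgebraicGeometry TopologicalSpace Opposite
open Groth.Agent.FEtStein.PullDiag
open scoped TensorProduct

namespace Groth.Agent.FEtStein

/-- Restriction along the identity. -/
noncomputable def restrictIdApp {T : Scheme.{u}} (V : FEt.Cat T) : (FEt.restrict (𝟙 T)).obj V ≅ V :=
  MorphismProperty.Over.isoMk (asIso (pullback.fst V.hom (𝟙 T))) (pullback.condition.trans (Category.comp_id _))

section

variable {X S : Scheme.{u}} (g : X ⟶ S)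

/-- Restriction along composite maps of bases. -/
noncomputable def pbRestrictIso {T T' T'' : Scheme.{u}} (u : T ⟶ T') (v : T' ⟶ T'') (w : T ⟶ T'') (e : u ≫ v = w)
    {a : T ⟶ S} {a' : T' ⟶ S} {a'' : T'' ⟶ S} (h : u ≫ a' = a) (h' : v ≫ a'' = a') (h'' : w ≫ a'' = a) :
    FEt.restrict (pbMap g w h'') ≅ FEt.restrict (pbMap g v h') ⋙ FEt.restrict (pbMap g u h) :=
  restrictCompIso _ _ _ (by rw [pbMap_comp]; subst e; rfl)

end

variable {R : Type u} [CommRing R] (J : Ideal R) {X : Scheme.{u}} (g : X ⟶ Spec (CommRingCat.of R)) [IsProper g]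

local notation "J₁" => J ^ (0 + 1)
local notation "Sp" => fun φ => Spec.map (CommRingCat.ofHom φ)

/-- A cover of the closed part comes from a finitely generated subalgebra of the completion. -/
theorem exists_cover_completion_stage [IsNoetherianRing R]
    (V : FEt.Cat (pullback g (Spec.map (CommRingCat.ofHom (Ideal.Quotient.mk J₁))))) :
    ∃ (B : Type u) (_ : CommRing B) (_ : Algebra R B) (_ : Algebra.FiniteType R B)
      (φ : B →ₐ[R] AdicCompletion J R) (W : FEt.Cat (pullback g (Spec.map (CommRingCat.ofHom (algebraMap R B))))),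
      ∀ (h : Spec.map (CommRingCat.ofHom ((AdicCompletion.evalₐ J (0 + 1)).comp φ).toRingHom) ≫
          Spec.map (CommRingCat.ofHom (algebraMap R B)) = Spec.map (CommRingCat.ofHom (Ideal.Quotient.mk J₁))),
        Nonempty ((FEt.restrict (pbMap g _ h)).obj W ≅ V) := by
  let C := AdicCompletion J R
  let K : Ideal C := J.map (algebraMap R C)
  haveI : IsNoetherianRing C := Matlis6.isNoetherianRing_adicCompletion _
  haveI : IsAdicComplete K C := AdicCompletion.isAdicComplete_self J (IsNoetherian.noetherian J)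
  let ρ := Spec.map (CommRingCat.ofHom (algebraMap R C))
  let e₁ : C →ₐ[R] R ⧸ J₁ := AdicCompletion.evalₐ J (0 + 1)
  have hK : ∀ x ∈ K, e₁ x = 0 := by
    intro x hx
    have hle : K ≤ RingHom.ker e₁.toRingHom := by
      rw [Ideal.map_le_iff_le_comap]
      intro r hr
      show e₁ (algebraMap R C r) = 0
      rw [AlgHom.commutes]
      exact Ideal.Quotient.eq_zero_iff_mem.mpr (by rwa [zero_add, pow_one])
    exact hle hx
  let κ : C ⧸ K →+* R ⧸ J₁ := Ideal.Quotient.lift K e₁.toRingHom hK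
  let κ' : R ⧸ J₁ →+* C ⧸ K := Ideal.quotientMap K (algebraMap R C) (by
    rw [zero_add, pow_one]; exact Ideal.le_comap_map)
  have hκ : κ.comp κ' = RingHom.id _ := Ideal.Quotient.ringHom_ext (RingHom.ext fun r => e₁.commutes r)
  let q₁ := Spec.map (CommRingCat.ofHom (Ideal.Quotient.mk K))
  let qR := Spec.map (CommRingCat.ofHom (Ideal.Quotient.mk J₁))
  let f' := pullback.snd g ρ
  haveI : IsProper f' := MorphismProperty.pullback_snd _ _ ‹IsProper g›
  have hm₀ : Spec.map (CommRingCat.ofHom κ') ≫ qR = q₁ ≫ ρ := by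
    rw [← Spec.map_comp, ← Spec.map_comp]; rfl
  let m : pullback f' q₁ ⟶ pullback g qR :=
    pullback.lift (pullback.fst f' q₁ ≫ pullback.fst g ρ) (pullback.snd f' q₁ ≫ Spec.map (CommRingCat.ofHom κ')) (by
      rw [Category.assoc, Category.assoc, hm₀, pullback.condition, ← pullback.condition_assoc])
  let se := Spec.map (CommRingCat.ofHom e₁.toRingHom)
  have hse : se ≫ ρ = qR := by
    rw [← Spec.map_comp, ← CommRingCat.ofHom_comp, AlgHom.toRingHom_eq_coe, AlgHom.comp_algebraMap]; rfl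
  let n : pullback g qR ⟶ pullback f' q₁ :=
    pullback.lift (pbMap g se hse) (pullback.snd g qR ≫ Spec.map (CommRingCat.ofHom κ)) (by
      rw [pbMap_snd, Category.assoc, ← Spec.map_comp]; rfl)
  have hnm : n ≫ m = 𝟙 _ := by
    apply pullback.hom_ext
    · simp [n, m]
    · simp only [n, m, Category.assoc, pullback.lift_snd, pullback.lift_snd_assoc, Category.id_comp]
      rw [← Spec.map_comp, ← CommRingCat.ofHom_comp, hκ, CommRingCat.ofHom_id, Spec.map_id]
      exact Category.comp_id _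
  haveI := restrict_essSurj_of_adicComplete K f'
  let W₁ := (FEt.restrict (pullback.fst f' q₁)).objPreimage ((FEt.restrict m).obj V)
  have hn : n ≫ pullback.fst f' q₁ = pbMap g se hse := pullback.lift_fst _ _ _
  let e : (FEt.restrict (pbMap g se hse)).obj W₁ ≅ V :=
    (restrictCompIso n (pullback.fst f' q₁) _ hn).app W₁ ≪≫
      (FEt.restrict n).mapIso ((FEt.restrict (pullback.fst f' q₁)).objObjPreimageIso _) ≪≫
      ((restrictCompIso n m _ hnm).app V).symm ≪≫ restrictIdApp V
  -- descend to a finitely generated subalgebra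
  obtain ⟨hlim⟩ := SubAlgDiag.nonempty_isLimit R (⊥ : Ideal C)
  let q₀ := Spec.map (CommRingCat.ofHom (RingEquiv.quotientBot C).symm.toRingHom)
  let sB := Spec.map (CommRingCat.ofHom ((Ideal.Quotient.mk (⊥ : Ideal C)).comp (algebraMap R C)))
  let q₀' := Spec.map (CommRingCat.ofHom (RingEquiv.quotientBot C).toRingHom)
  have hq₀ : q₀' ≫ sB = ρ := by
    rw [← Spec.map_comp]; rfl
  have hq₀' : q₀ ≫ ρ = sB := by
    rw [← Spec.map_comp]; rfl
  haveI : ∀ i, CompactSpace ↥((SubAlgDiag.specDiag R (⊥ : Ideal C)).obj i) := fun i =>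
    inferInstanceAs (CompactSpace ↥(Spec _))
  haveI : ∀ i, QuasiSeparatedSpace ↥((SubAlgDiag.specDiag R (⊥ : Ideal C)).obj i) := fun i =>
    inferInstanceAs (QuasiSeparatedSpace ↥(Spec _))
  haveI : ∀ i, CompactSpace ↥(pullback g ((SubAlgDiag.str R (⊥ : Ideal C)).app i)) := fun i =>
    QuasiCompact.compactSpace_of_compactSpace (pullback.snd g _)
  haveI : ∀ i, QuasiSeparatedSpace ↥(pullback g ((SubAlgDiag.str R (⊥ : Ideal C)).app i)) := fun i =>
    quasiSeparatedSpace_of_quasiSeparated (pullback.snd g _)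
  obtain ⟨i, W, ⟨eW⟩⟩ := PullDiag.exists_cover g (SubAlgDiag.str R (⊥ : Ideal C)) (SubAlgDiag.specCone R ⊥) sB
    (SubAlgDiag.π_str R ⊥) hlim ((FEt.restrict (pbMap g q₀ hq₀')).obj W₁)
  haveI hft : Algebra.FiniteType R (SubAlgDiag.sub R i.unop) :=
    Algebra.FiniteType.adjoin_of_finite i.unop.finite_toSet
  haveI : Algebra.FiniteType R (SubAlgDiag.sub R i.unop ⧸ SubAlgDiag.idl R (⊥ : Ideal C) i.unop) :=
    hft.of_surjective (Ideal.Quotient.mkₐ R _) Ideal.Quotient.mk_surjective
  refine ⟨SubAlgDiag.sub R i.unop ⧸ SubAlgDiag.idl R (⊥ : Ideal C) i.unop, inferInstance, inferInstance,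
    inferInstance, ((AlgEquiv.quotientBot R C).toAlgHom).comp
      (Ideal.quotientMapₐ (⊥ : Ideal C) (SubAlgDiag.sub R i.unop).val le_rfl), W, fun h => ⟨?_⟩⟩
  refine (pbRestrictIso g (se ≫ q₀') ((SubAlgDiag.specCone R ⊥).π.app i) _ ?_ ?_ (SubAlgDiag.π_str R ⊥ i) h).app W
    ≪≫ (FEt.restrict (pbMap g (se ≫ q₀') ?_)).mapIso eW ≪≫
    ((pbRestrictIso g (se ≫ q₀') q₀ se ?_ ?_ hq₀' hse).app W₁).symm ≪≫ e
  · show (Spec.map _ ≫ Spec.map _) ≫ Spec.map _ = Spec.map _
    rw [← Spec.map_comp, ← Spec.map_comp]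
    congr 1
  · rw [Category.assoc, hq₀, hse]
  · rw [Category.assoc, hq₀, hse]
  · rw [Category.assoc, ← Spec.map_comp]
    have : CommRingCat.ofHom (RingEquiv.quotientBot C).symm.toRingHom ≫ CommRingCat.ofHom (RingEquiv.quotientBot C).toRingHom = 𝟙 _ := by
      rw [← CommRingCat.ofHom_comp, RingEquiv.toRingHom_comp_symm_toRingHom, CommRingCat.ofHom_id]
    rw [this, Spec.map_id]
    exact Category.comp_id _
  · rw [Category.assoc, hq₀, hse]

/-- A cover of the closed part of a proper scheme over a G-ring lifts over a henselian pair under it. -/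
theorem exists_cover_henselian (hR : CAlg.IsGRing R) {A : Type u} [CommRing A] [Algebra R A] (I : Ideal A)
    [HenselianRing A I] (hJ : J₁ ≤ I.comap (algebraMap R A))
    (V : FEt.Cat (pullback g (Spec.map (CommRingCat.ofHom (Ideal.Quotient.mk J₁)))))
    (h : Spec.map (CommRingCat.ofHom (Ideal.quotientMap I (algebraMap R A) hJ)) ≫
        Spec.map (CommRingCat.ofHom (Ideal.Quotient.mk J₁)) =
      Spec.map (CommRingCat.ofHom (Ideal.Quotient.mk I)) ≫ Spec.map (CommRingCat.ofHom (algebraMap R A))) :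
    ∃ W : FEt.Cat (pullback g (Spec.map (CommRingCat.ofHom (algebraMap R A)))),
      Nonempty ((FEt.restrict (pbMap g (Spec.map (CommRingCat.ofHom (Ideal.Quotient.mk I))) rfl)).obj W ≅
        (FEt.restrict (pbMap g _ h)).obj V) := by
  haveI := hR.1
  obtain ⟨B, _, _, _, φ, WB, hWB⟩ := exists_cover_completion_stage J g V
  let π : B →ₐ[R] R ⧸ J₁ := (AdicCompletion.evalₐ J (0 + 1)).comp φ
  have hπ : Spec.map (CommRingCat.ofHom π.toRingHom) ≫ Spec.map (CommRingCat.ofHom (algebraMap R B)) =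
      Spec.map (CommRingCat.ofHom (Ideal.Quotient.mk J₁)) := by
    rw [← Spec.map_comp, ← CommRingCat.ofHom_comp, AlgHom.toRingHom_eq_coe, AlgHom.comp_algebraMap]; rfl
  obtain ⟨eW⟩ := hWB hπ
  obtain ⟨C', _, aC, aA, tw, het, hb, ψ, hψ⟩ :=
    Groth.Agent.CAlgH.ApproximationPair.exists_etale_approx hR (C := R) J φ 0
  let ψr : B →+* C' := ψ.toRingHom
  have hψc : ∀ r : R, ψr (algebraMap R B r) = @algebraMap R C' _ _ aA r := fun r => ψ.commutes r
  have hψr : ∀ (b : B) (c : R), AdicCompletion.evalₐ J (0 + 1) (φ b) = Ideal.Quotient.mk (J ^ (0 + 1)) c →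
      ψr b - @algebraMap R C' _ _ aC c ∈ (J ^ (0 + 1)).map (@algebraMap R C' _ _ aC) := fun b c h' => hψ b c h'
  letI := aC
  have halg : ∀ r : R, @algebraMap R C' _ _ aA r = algebraMap R C' r := fun r =>
    (@IsScalarTower.algebraMap_apply R R C' _ _ _ _ aC aA tw r)
  obtain ⟨σ, hker, -⟩ := HenselLib.exists_point J hb
  have hJ' : J ≤ I.comap (algebraMap R A) := fun r hr => hJ (by rwa [zero_add, pow_one])
  let ν : R ⧸ J →+* A ⧸ I := Ideal.quotientMap I (algebraMap R A) hJ'
  let ν' : R ⧸ J →ₐ[R] A ⧸ I := { ν with commutes' := fun r => rfl }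
  letI : Algebra A (A ⊗[R] C') := inferInstance
  let σA : A ⊗[R] C' →ₐ[A] A ⧸ I :=
    Algebra.TensorProduct.lift (Algebra.ofId A (A ⧸ I)) (ν'.comp σ) fun _ _ => Commute.all _ _
  haveI := het
  obtain ⟨τ, hτ⟩ := HenselLib.exists_lift_of_smooth I σA
  let γ : C' →ₐ[R] A := (τ.restrictScalars R).comp Algebra.TensorProduct.includeRight
  have hγ : ∀ x, Ideal.Quotient.mk I (γ x) = ν (σ x) := fun x => by
    refine (DFunLike.congr_fun hτ ((1 : A) ⊗ₜ[R] x)).trans ?_
    simp [σA, ν']
  let ζ : B →+* A := γ.toRingHom.comp ψr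
  have hζ : Spec.map (CommRingCat.ofHom ζ) ≫ Spec.map (CommRingCat.ofHom (algebraMap R B)) =
      Spec.map (CommRingCat.ofHom (algebraMap R A)) := by
    rw [← Spec.map_comp, ← CommRingCat.ofHom_comp]
    congr 2
    refine RingHom.ext fun r => ?_
    show γ (ψr (algebraMap R B r)) = algebraMap R A r
    rw [hψc, halg, AlgHom.commutes]
  have hcong : (Ideal.Quotient.mk I).comp ζ = (Ideal.quotientMap I (algebraMap R A) hJ).comp π.toRingHom := by
    refine RingHom.ext fun b => ?_
    obtain ⟨c, hc⟩ := Ideal.Quotient.mk_surjective (π b)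
    show Ideal.Quotient.mk I (γ (ψr b)) = Ideal.quotientMap I (algebraMap R A) hJ (π b)
    rw [hγ, ← hc, Ideal.quotientMap_mk]
    have h1 := hψr b c hc.symm
    have h2 : σ (ψr b - algebraMap R C' c) = 0 := by
      rw [← RingHom.mem_ker, hker]
      rwa [zero_add, pow_one] at h1
    rw [map_sub, sub_eq_zero, AlgHom.commutes] at h2
    rw [h2]
    rfl
  refine ⟨(FEt.restrict (pbMap g (Spec.map (CommRingCat.ofHom ζ)) hζ)).obj WB, ⟨?_⟩⟩
  have hcong' : Spec.map (CommRingCat.ofHom (Ideal.Quotient.mk I)) ≫ Spec.map (CommRingCat.ofHom ζ) =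
      Spec.map (CommRingCat.ofHom (Ideal.quotientMap I (algebraMap R A) hJ)) ≫ Spec.map (CommRingCat.ofHom π.toRingHom) := by
    rw [← Spec.map_comp, ← Spec.map_comp, ← CommRingCat.ofHom_comp, ← CommRingCat.ofHom_comp, hcong]
  have hbig : (Spec.map (CommRingCat.ofHom (Ideal.quotientMap I (algebraMap R A) hJ)) ≫ Spec.map (CommRingCat.ofHom π.toRingHom)) ≫
      Spec.map (CommRingCat.ofHom (algebraMap R B)) =
      Spec.map (CommRingCat.ofHom (Ideal.Quotient.mk I)) ≫ Spec.map (CommRingCat.ofHom (algebraMap R A)) := by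
    rw [Category.assoc, hπ, h]
  exact ((pbRestrictIso g _ _ _ hcong' rfl hζ hbig).app WB).symm ≪≫
    (pbRestrictIso g _ _ _ rfl h hπ hbig).app WB ≪≫ (FEt.restrict (pbMap g _ h)).mapIso eW

end Groth.Agent.FEtStein
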