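import Groth.Agent.FEtStein.Noetherian
import Groth.Agent.H8Lim.NoetherianModel
import Groth.Agent.AbSchLib.RigidityGeneral
import Groth.Agent.Coherent.GeomConnected
import Groth.Agent.EGA43.Limit.Basic
import Mathlib.AlgebraicGeometry.Sites.Fpqc

/-!
# Stein factorisation of a proper flat finitely presented morphism with geometrically reduced fibres
-/

set_option autoImplicit false
set_option linter.style.haveILetI false
set_option backward.isDefEq.respectTransparency.types false
set_option backward.isDefEq.respectTransparency false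
universe u

open CategoryTheory CategoryTheory.Limits AlgebraicGeometry Opposite TopologicalSpace
open Groth.Agent.Coherent Groth.Agent.AbSchLib

namespace Groth.Agent.FEtStein

/-- Functions on the target inject into functions on the source of a flat surjection. -/
theorem injective_appTop_of_flat {X T : Scheme.{u}} (g : X ⟶ T) [Flat g] [Surjective g] :
    Function.Injective g.appTop := by
  refine (injective_iff_map_eq_zero g.appTop.hom).2 fun s hs => ?_
  refine TopCat.Presheaf.section_ext T.sheaf ⊤ s 0 fun t _ => ?_
  obtain ⟨x, rfl⟩ := g.surjective t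
  have hinj : Function.Injective (g.stalkMap x).hom := by
    algebraize [(g.stalkMap x).hom]
    have : Module.FaithfullyFlat (T.presheaf.stalk (g x)) (X.presheaf.stalk x) :=
      @Module.FaithfullyFlat.of_flat_of_isLocalHom _ _ _ _ _ _ _ (Flat.stalkMap g x) (g.toLRSHom.prop x)
    exact ‹RingHom.FaithfullyFlat _›.injective
  apply hinj
  show g.stalkMap x (T.presheaf.germ ⊤ (g x) trivial s) = g.stalkMap x (T.presheaf.germ ⊤ (g x) trivial 0)
  rw [map_zero, map_zero, Scheme.Hom.germ_stalkMap_apply]
  exact (congrArg (fun r => X.presheaf.germ ⊤ x trivial r) hs).trans (map_zero (X.presheaf.germ ⊤ x trivial).hom)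

/-- A geometrically connected morphism is surjective. -/
theorem surjective_of_geometricallyConnected {X T : Scheme.{u}} (g : X ⟶ T) [GeometricallyConnected g] :
    Surjective g := ⟨fun t => by
  haveI : ConnectedSpace ↥(g.fiber t) := GeometricallyConnected.geometrically_connectedSpace
    (T.fromSpecResidueField t) _ _ (IsPullback.of_hasPullback g (T.fromSpecResidueField t))
  obtain ⟨z⟩ := (inferInstance : Nonempty ↥(g.fiber t))
  have hz := (g.range_fiberι t).subset ⟨z, rfl⟩
  exact ⟨_, hz⟩⟩

/-- A proper flat finitely presented morphism with geometrically connected and reduced fibres has the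
same global functions as its target. -/
theorem bijective_appTop {X T : Scheme.{u}} (g : X ⟶ T) [IsProper g] [Flat g] [LocallyOfFinitePresentation g]
    [GeometricallyConnected g] [GeometricallyReduced g] : Function.Bijective g.appTop := by
  haveI : Surjective g := surjective_of_geometricallyConnected g
  refine ⟨injective_appTop_of_flat g, fun s => ?_⟩
  let pr1 := pullback.fst g g
  let pr2 := pullback.snd g g
  haveI : IsProper pr2 := MorphismProperty.pullback_snd _ _ ‹IsProper g›
  haveI : LocallyOfFinitePresentation pr2 := MorphismProperty.pullback_snd _ _ ‹LocallyOfFinitePresentation g›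
  haveI : Flat pr2 := MorphismProperty.pullback_snd _ _ ‹Flat g›
  haveI : GeometricallyConnected pr2 := MorphismProperty.pullback_snd _ _ ‹GeometricallyConnected g›
  let e := pullback.diagonal g
  have he : e ≫ pr2 = 𝟙 X := pullback.diagonal_snd g
  let d : Γ(pullback g g, ⊤) := pr1.appTop s - pr2.appTop s
  have hd0 : e.appTop d = 0 := by
    show e.appTop (pr1.appTop s - pr2.appTop s) = 0
    rw [map_sub, sub_eq_zero, ← CommRingCat.comp_apply, ← CommRingCat.comp_apply,
      ← Scheme.Hom.comp_appTop, ← Scheme.Hom.comp_appTop, pullback.diagonal_fst, he]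
  have hd : d = 0 := by
    refine TopCat.Presheaf.section_ext (pullback g g).sheaf ⊤ d 0 fun x _ => ?_
    have h := germ_eq_zero_of_sectionG pr2 e he ⊤ le_top d
      (by rw [← hd0]; simp [Scheme.Hom.appLE]) x trivial
    exact h.trans (map_zero ((pullback g g).presheaf.germ ⊤ x trivial).hom).symm
  let P : CommRingCat.{u} := CommRingCat.of (Polynomial (ULift.{u} ℤ))
  let φ : P ⟶ Γ(X, ⊤) := CommRingCat.ofHom
    (Polynomial.eval₂RingHom ((Int.castRingHom Γ(X, ⊤)).comp ULift.ringEquiv.toRingHom) s)
  let a : X ⟶ Spec P := X.toSpecΓ ≫ Spec.map φ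
  have hφ : φ ≫ pr1.appTop = φ ≫ pr2.appTop := by
    apply CommRingCat.hom_ext
    refine Polynomial.ringHom_ext (fun z => ?_) ?_
    · simp [φ]
    · simpa [φ, sub_eq_zero, d] using hd
  have ha : pr1 ≫ a = pr2 ≫ a := by
    simp only [a, Scheme.toSpecΓ_naturality_assoc, ← Spec.map_comp, hφ]
  let b : T ⟶ Spec P := EffectiveEpi.desc g a fun {Z} h₁ h₂ h => by
    have := congrArg (pullback.lift h₁ h₂ h ≫ ·) ha
    simpa [pr1, pr2] using this
  refine ⟨((Scheme.ΓSpecIso P).inv ≫ b.appTop) Polynomial.X, ?_⟩
  rw [← CommRingCat.comp_apply, Category.assoc, ← Scheme.Hom.comp_appTop, EffectiveEpi.fac]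
  have e2 : (Scheme.ΓSpecIso P).inv ≫ a.appTop = φ := by
    simp only [a, Scheme.Hom.comp_appTop, Scheme.toSpecΓ_appTop]
    rw [Scheme.ΓSpecIso_naturality, Iso.inv_hom_id_assoc]
  rw [e2]
  exact Polynomial.eval₂_X _ _

/-- A factorisation through an affine morphism with the same functions is the normalization. -/
theorem isIso_normalizationDesc_of_factor {X Y S' : Scheme.{u}} (f : X ⟶ Y) [QuasiCompact f]
    [QuasiSeparated f] [IsAffine Y] (g : X ⟶ S') (p : S' ⟶ Y) [IsIntegralHom p] (H : f = g ≫ p)
    (hg : Function.Bijective g.appTop) : IsIso (f.normalizationDesc g p H) := by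
  haveI : IsAffine f.normalization := isAffine_of_isAffineHom f.fromNormalization
  haveI : IsAffine S' := isAffine_of_isAffineHom p
  let φ := f.normalizationDesc g p H
  have h1 : Function.Injective f.toNormalization.appTop := by
    letI := (f.app ⊤).hom.toAlgebra
    show Function.Injective (f.toNormalization.app (f.fromNormalization ⁻¹ᵁ ⊤))
    rw [f.toNormalization_app_preimage ⟨⊤, isAffineOpen_top Y⟩]
    simp only [CommRingCat.hom_comp]
    exact ((ConcreteCategory.bijective_of_isIso (X.presheaf.map (eqToHom _).op)).1.comp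
      Subtype.val_injective).comp (ConcreteCategory.bijective_of_isIso (f.normalizationObjIso (isAffineOpen_top Y)).hom).1
  have h2 : ⇑f.toNormalization.appTop ∘ ⇑φ.appTop = ⇑g.appTop := by
    funext z
    show (φ.appTop ≫ f.toNormalization.appTop) z = g.appTop z
    rw [← Scheme.Hom.comp_appTop, Scheme.Hom.toNormalization_normalizationDesc]
  have hb : Function.Bijective φ.appTop := by
    refine ⟨fun a b h => hg.1 ?_, fun z => ?_⟩
    · rw [← h2, Function.comp_apply, Function.comp_apply, h]
    · obtain ⟨w, hw⟩ := hg.2 (f.toNormalization.appTop z)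
      exact ⟨w, h1 ((congrFun h2 w).trans hw)⟩
  haveI : IsIso φ.appTop := (ConcreteCategory.isIso_iff_bijective _).2 hb
  exact (MorphismProperty.arrow_mk_iso_iff (MorphismProperty.isomorphisms Scheme.{u})
    (arrowIsoSpecΓOfIsAffine φ)).2 (show IsIso (Spec.map φ.appTop) from inferInstance)

/-- A factorisation through a finite étale morphism with the same functions is the normalization. -/
theorem isFinite_etale_fromNormalization_of_factor {X Y S' : Scheme.{u}} (f : X ⟶ Y) [QuasiCompact f]
    [QuasiSeparated f] [IsAffine Y] (g : X ⟶ S') (p : S' ⟶ Y) [IsFinite p] [Etale p] (H : f = g ≫ p)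
    (hg : Function.Bijective g.appTop) : IsFinite f.fromNormalization ∧ Etale f.fromNormalization := by
  haveI := isIso_normalizationDesc_of_factor f g p H hg
  rw [← f.normalizationDesc_comp g p H]
  exact ⟨inferInstance, inferInstance⟩

/-- The Stein factorisation over a spectrum: through a finite étale cover, with geometrically connected
and geometrically reduced fibres. -/
theorem exists_factor (R : Type u) [CommRing R] {X : Scheme.{u}} (f : X ⟶ Spec (CommRingCat.of R))
    [IsProper f] [Flat f] [LocallyOfFinitePresentation f]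
    (hred : ∀ (Ω : Type u) [Field Ω] [IsAlgClosed Ω] (σ : Spec (CommRingCat.of Ω) ⟶ Spec (CommRingCat.of R)),
      AlgebraicGeometry.IsReduced (pullback f σ)) :
    ∃ (S' : Scheme.{u}) (g : X ⟶ S') (p : S' ⟶ Spec (CommRingCat.of R)), f = g ≫ p ∧ IsFinite p ∧ Etale p ∧
      IsProper g ∧ Flat g ∧ LocallyOfFinitePresentation g ∧ GeometricallyConnected g ∧ GeometricallyReduced g := by
  haveI := geometricallyReduced_of_algClosed f hred
  obtain ⟨s, X₀, f₀, q, _, _, _, sq⟩ := H8Lim.exists_noetherian_model_proper_flat f
  let R₀ := H8Lim.fgSub R s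
  let ρ : Spec (CommRingCat.of R) ⟶ Spec (CommRingCat.of R₀) :=
    Spec.map (CommRingCat.ofHom R₀.val.toRingHom)
  have hhet : ∀ x, Algebra.Etale ((Spec (CommRingCat.of R₀)).residueField (ρ x)) Γ(f₀.fiber (ρ x), ⊤) := by
    intro x
    refine etale_fiber_global f₀ (ρ x) ?_
    let a := Spec.map (ρ.residueFieldMap x)
    haveI : Surjective a := ⟨fun z => ⟨(IsLocalRing.closedPoint _ : PrimeSpectrum ((Spec (CommRingCat.of R)).residueField x)),
      Subsingleton.elim (α := PrimeSpectrum ((Spec (CommRingCat.of R₀)).residueField (ρ x))) _ _⟩⟩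
    haveI : GeometricallyReduced (f.fiberToSpecResidueField x) := inferInstance
    have h1 : IsPullback (pullback.fst f (Scheme.fromSpecResidueField _ x) ≫ q) (f.fiberToSpecResidueField x) f₀
        ((Spec (CommRingCat.of R)).fromSpecResidueField x ≫ ρ) :=
      (IsPullback.of_hasPullback f _).paste_horiz sq
    have hfsp : (Spec (CommRingCat.of R)).fromSpecResidueField x ≫ ρ =
        a ≫ (Spec (CommRingCat.of R₀)).fromSpecResidueField (ρ x) := by
      simp [a, Scheme.Hom.SpecMap_residueFieldMap_fromSpecResidueField]
    have h2 := (IsPullback.of_hasPullback (f₀.fiberToSpecResidueField (ρ x)) a).paste_horiz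
      (IsPullback.of_hasPullback f₀ ((Spec (CommRingCat.of R₀)).fromSpecResidueField (ρ x)))
    rw [hfsp] at h1
    have h3 : GeometricallyReduced (pullback.snd (f₀.fiberToSpecResidueField (ρ x)) a) := by
      rw [← h2.isoIsPullback_hom_snd _ _ h1]
      exact MorphismProperty.RespectsIso.precomp (P := @GeometricallyReduced) _ _ ‹_›
    exact ⟨FBaseLib.geometrically_of_surjective (P := AlgebraicGeometry.IsReduced)
      (fun A B h _ _ (_ : AlgebraicGeometry.IsReduced A) => FlatMor12.isReduced_of_flat_surjective h) _ a
      h3.geometrically_isReduced⟩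
  let n := f₀.fromNormalization
  let t := f₀.toNormalization
  haveI : IsFinite n := isFinite_fromNormalization_of_isProper f₀
  haveI : IsLocallyNoetherian f₀.normalization := isLocallyNoetherian_normalization f₀
  haveI : IsProper t := isProper_toNormalization f₀
  haveI : GeometricallyConnected t := geometricallyConnected_of_isIso_app t (isIso_toNormalization_app f₀)
  let p := pullback.snd n ρ
  haveI : IsFinite p := MorphismProperty.pullback_snd _ _ ‹IsFinite n›
  haveI : Etale p := by
    choose U hU hUet using fun x => exists_etale_nhd f₀ (ρ x) (hhet x)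
    refine IsZariskiLocalAtSource.of_iSup_eq_top (P := @Etale)
      (fun x => pullback.fst n ρ ⁻¹ᵁ (n ⁻¹ᵁ U x)) ?_ fun x => ?_
    · refine eq_top_iff.2 fun z _ => Opens.mem_iSup.2 ⟨pullback.snd n ρ z, ?_⟩
      show (pullback.fst n ρ ≫ n) z ∈ U _
      rw [pullback.condition]
      exact hU _
    · haveI := hUet x
      haveI : Etale ((n ⁻¹ᵁ U x).ι ≫ n) := by
        rw [← morphismRestrict_ι]
        infer_instance
      exact MorphismProperty.of_isPullback
        ((isPullback_morphismRestrict (pullback.fst n ρ) (n ⁻¹ᵁ U x)).paste_vert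
          (IsPullback.of_hasPullback n ρ)) ‹Etale ((n ⁻¹ᵁ U x).ι ≫ n)›
  let g : X ⟶ pullback n ρ := pullback.lift (q ≫ t) f (by rw [Category.assoc, f₀.toNormalization_fromNormalization, sq.w])
  have hgp : g ≫ p = f := pullback.lift_snd _ _ _
  have hsqg : IsPullback q g t (pullback.fst n ρ) := by
    refine IsPullback.of_bot ?_ (by simp [g]) (IsPullback.of_hasPullback n ρ)
    rw [hgp, f₀.toNormalization_fromNormalization]
    exact sq
  haveI : IsProper g := MorphismProperty.of_isPullback hsqg ‹IsProper t›
  haveI : GeometricallyConnected g := MorphismProperty.of_isPullback hsqg ‹GeometricallyConnected t›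
  haveI : LocallyOfFinitePresentation g := by
    haveI : LocallyOfFinitePresentation (g ≫ p) := hgp.symm ▸ ‹LocallyOfFinitePresentation f›
    exact EGA43.Limit.locallyOfFinitePresentation_of_comp g p
  haveI : Flat g := by
    haveI : MorphismProperty.HasOfPostcompProperty @Flat.{u} @Etale.{u} := by
      rw [MorphismProperty.hasOfPostcompProperty_iff_le_diagonal]
      intro A B h (_ : Etale h)
      exact inferInstanceAs (Flat (pullback.diagonal h))
    exact MorphismProperty.of_postcomp (W := @Flat) (W' := @Etale) g p ‹_› (hgp.symm ▸ ‹Flat f›)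
  haveI : GeometricallyReduced g := geometricallyReduced_of_algClosed g fun Ω _ _ σ => by
    haveI : IsOpenImmersion (pullback.mapDesc g σ p) :=
      MorphismProperty.of_isPullback (pullback_map_diagonal_isPullback g σ p) inferInstance
    haveI : AlgebraicGeometry.IsReduced (pullback (g ≫ p) (σ ≫ p)) := by
      haveI := hred Ω (σ ≫ p)
      exact isReduced_of_isOpenImmersion (pullback.congrHom hgp rfl).hom
    exact isReduced_of_isOpenImmersion (pullback.mapDesc g σ p)
  exact ⟨_, g, p, hgp.symm, inferInstance, inferInstance, inferInstance, inferInstance, inferInstance,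
    inferInstance, inferInstance⟩

/-- Stein factorisation over an affine base. -/
theorem exists_factor_affine {X T : Scheme.{u}} [IsAffine T] (f : X ⟶ T) [IsProper f] [Flat f]
    [LocallyOfFinitePresentation f]
    (hred : ∀ (Ω : Type u) [Field Ω] [IsAlgClosed Ω] (σ : Spec (CommRingCat.of Ω) ⟶ T),
      AlgebraicGeometry.IsReduced (pullback f σ)) :
    ∃ (S' : Scheme.{u}) (g : X ⟶ S') (p : S' ⟶ T), f = g ≫ p ∧ IsFinite p ∧ Etale p ∧
      IsProper g ∧ Flat g ∧ LocallyOfFinitePresentation g ∧ GeometricallyConnected g ∧ GeometricallyReduced g := by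
  let e := T.isoSpec
  obtain ⟨S', g, p, h, _, _, hg⟩ := exists_factor Γ(T, ⊤) (f ≫ e.hom) fun Ω _ _ σ => by
    haveI := hred Ω (σ ≫ e.inv)
    have h1 : IsPullback (pullback.fst f (σ ≫ e.inv)) (pullback.snd f (σ ≫ e.inv)) (f ≫ e.hom) σ :=
      (IsPullback.of_hasPullback f (σ ≫ e.inv)).of_iso (Iso.refl _) (Iso.refl _) (Iso.refl _) e
        (by simp) (by simp) (by simp) (by simp)
    exact isReduced_of_isOpenImmersion h1.isoPullback.inv
  exact ⟨S', g, p ≫ e.inv, by rw [← Category.assoc, ← h, Category.assoc, e.hom_inv_id, Category.comp_id],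
    inferInstance, inferInstance, hg⟩

/-- The finite part of the Stein factorisation is finite étale. -/
theorem isFinite_etale_fromNormalization {X S : Scheme.{u}} (f : X ⟶ S) [IsProper f] [Flat f]
    [LocallyOfFinitePresentation f]
    (hred : ∀ (Ω : Type u) [Field Ω] [IsAlgClosed Ω] (σ : Spec (CommRingCat.of Ω) ⟶ S),
      AlgebraicGeometry.IsReduced (pullback f σ)) :
    IsFinite f.fromNormalization ∧ Etale f.fromNormalization := by
  let n := f.fromNormalization
  suffices h : ∀ V : S.affineOpens, IsFinite (n ∣_ V.1) ∧ Etale (n ∣_ V.1) from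
    ⟨(IsZariskiLocalAtTarget.iff_of_iSup_eq_top (P := @IsFinite) _ (iSup_affineOpens_eq_top S)).2 fun V => (h V).1,
      (IsZariskiLocalAtTarget.iff_of_iSup_eq_top (P := @Etale) _ (iSup_affineOpens_eq_top S)).2 fun V => (h V).2⟩
  intro V
  haveI : IsAffine (V.1 : Scheme.{u}) := V.2
  let ι := V.1.ι
  let fV := pullback.snd f ι
  haveI : IsProper fV := MorphismProperty.pullback_snd _ _ ‹IsProper f›
  haveI : Flat fV := MorphismProperty.pullback_snd _ _ ‹Flat f›
  haveI : LocallyOfFinitePresentation fV := MorphismProperty.pullback_snd _ _ ‹LocallyOfFinitePresentation f›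
  obtain ⟨S', g, p, h, _, _, _, _, _, _, _⟩ := exists_factor_affine fV fun Ω _ _ σ => by
    haveI := hred Ω (σ ≫ ι)
    exact isReduced_of_isOpenImmersion
      ((IsPullback.of_hasPullback fV σ).paste_horiz (IsPullback.of_hasPullback f ι)).isoPullback.hom
  obtain ⟨h1, h2⟩ := isFinite_etale_fromNormalization_of_factor fV g p h (bijective_appTop g)
  have key : ∀ {P : MorphismProperty Scheme.{u}} [P.RespectsIso], P fV.fromNormalization → P (n ∣_ V.1) := by
    intro P _ hP
    rw [← f.normalizationPullback_snd ι] at hP
    exact (P.arrow_mk_iso_iff (Arrow.isoMk (pullbackRestrictIsoRestrict n V.1) (Iso.refl _)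
      (by simp [morphismRestrict, n, ι]))).1 ((P.cancel_left_of_respectsIso _ _).1 hP)
  exact ⟨key h1, key h2⟩

/-- The connected part of the Stein factorisation has geometrically connected fibres. -/
theorem geometricallyConnected_toNormalization {X S : Scheme.{u}} (f : X ⟶ S) [IsProper f] [Flat f]
    [LocallyOfFinitePresentation f]
    (hred : ∀ (Ω : Type u) [Field Ω] [IsAlgClosed Ω] (σ : Spec (CommRingCat.of Ω) ⟶ S),
      AlgebraicGeometry.IsReduced (pullback f σ)) :
    GeometricallyConnected f.toNormalization := by
  refine ⟨fun K _ e Z fst snd hZ => ?_⟩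
  let n := f.fromNormalization
  let t := f.toNormalization
  obtain ⟨_, ⟨V₁, hV, rfl⟩, hzV, -⟩ := S.isBasis_affineOpens.exists_subset_of_mem_open
    (Set.mem_univ ((e ≫ n) (IsLocalRing.closedPoint K))) isOpen_univ
  let V : S.Opens := V₁
  haveI : IsAffine (V : Scheme.{u}) := hV
  let ι := V.ι
  let fV := pullback.snd f ι
  haveI : IsProper fV := MorphismProperty.pullback_snd _ _ ‹IsProper f›
  haveI : Flat fV := MorphismProperty.pullback_snd _ _ ‹Flat f›
  haveI : LocallyOfFinitePresentation fV := MorphismProperty.pullback_snd _ _ ‹LocallyOfFinitePresentation f›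
  obtain ⟨S', g, p, h, _, _, _, _, _, _, _⟩ := exists_factor_affine fV fun Ω _ _ σ => by
    haveI := hred Ω (σ ≫ ι)
    exact isReduced_of_isOpenImmersion
      ((IsPullback.of_hasPullback fV σ).paste_horiz (IsPullback.of_hasPullback f ι)).isoPullback.hom
  haveI := isIso_normalizationDesc_of_factor fV g p h (bijective_appTop g)
  haveI : GeometricallyConnected fV.toNormalization := by
    have e1 : fV.toNormalization = g ≫ inv (fV.normalizationDesc g p h) := by
      rw [IsIso.eq_comp_inv, Scheme.Hom.toNormalization_normalizationDesc]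
    rw [e1]
    exact MorphismProperty.RespectsIso.postcomp (P := @GeometricallyConnected) _ _ ‹GeometricallyConnected g›
  let tV := fV.toNormalization ≫ f.normalizationPullback ι
  haveI : GeometricallyConnected tV :=
    MorphismProperty.RespectsIso.postcomp (P := @GeometricallyConnected) _ _ ‹_›
  have hsq : IsPullback (pullback.fst f ι) tV t (pullback.fst n ι) := by
    refine IsPullback.of_bot ?_ ?_ (IsPullback.of_hasPullback n ι)
    · rw [f.toNormalization_fromNormalization, Category.assoc, f.normalizationPullback_snd,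
        Scheme.Hom.toNormalization_fromNormalization]
      exact IsPullback.of_hasPullback f ι
    · rw [Category.assoc]
      exact (f.toNormalization_normalizationPullback_fst ι).symm
  have hrange : Set.range e ⊆ Set.range (pullback.fst n ι) := by
    rintro _ ⟨z, rfl⟩
    rw [Scheme.Pullback.range_fst]
    show n (e z) ∈ Set.range ι
    rw [Scheme.Opens.range_ι, Subsingleton.elim (α := PrimeSpectrum K) z (IsLocalRing.closedPoint K)]
    exact hzV
  let e' := IsOpenImmersion.lift (pullback.fst n ι) e hrange
  have he' : e' ≫ pullback.fst n ι = e := IsOpenImmersion.lift_fac _ _ _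
  have h' := (IsPullback.of_hasPullback tV e').paste_horiz hsq
  rw [he'] at h'
  haveI := GeometricallyConnected.geometrically_connectedSpace (f := tV) e' _ _ (IsPullback.of_hasPullback tV e')
  let j := h'.isoIsPullback _ _ hZ
  exact j.hom.surjective.connectedSpace j.hom.continuous

end Groth.Agent.FEtStein
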