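import Groth.Agent.FEtStein.General
import Groth.Agent.FEtQuot.HomotopySurj
import Groth.Agent.HenselLib.EtaleReduced
import Groth.Agent.HenselLib.SectionsLift
import Mathlib.RingTheory.LocalProperties.Reduced

/-!
# Exactness of the homotopy sequence at the middle term
-/

set_option autoImplicit false
set_option linter.style.haveILetI false
set_option backward.isDefEq.respectTransparency.types false
set_option backward.isDefEq.respectTransparency false
universe u

open CategoryTheory CategoryTheory.Limits AlgebraicGeometry TopologicalSpace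
open Groth.Agent.FEtQuot

namespace Groth.Agent.FEtStein

/-- A scheme étale over a reduced scheme is reduced. -/
theorem isReduced_of_etale_source {A B : Scheme.{u}} (c : A ⟶ B) [Etale c] [AlgebraicGeometry.IsReduced B] :
    AlgebraicGeometry.IsReduced A := by
  have : ∀ x : A, _root_.IsReduced (A.presheaf.stalk x) := fun x => by
    obtain ⟨W, hW, hxW, -⟩ := exists_isAffineOpen_mem_and_subset (x := c x) (U := ⊤) trivial
    obtain ⟨V, hV, hxV, e⟩ := exists_isAffineOpen_mem_and_subset (x := x) (U := c ⁻¹ᵁ W) hxW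
    letI := (c.appLE W V e).hom.toAlgebra
    have hE : Algebra.Etale Γ(B, W) Γ(A, V) :=
      HasRingHomProperty.appLE @Etale c inferInstance ⟨W, hW⟩ ⟨V, hV⟩ e
    have : _root_.IsReduced Γ(A, V) := HenselLib.isReduced_of_etale Γ(B, W) Γ(A, V)
    letI := TopCat.Presheaf.algebra_section_stalk A.presheaf ⟨x, hxV⟩
    have := hV.isLocalization_stalk ⟨x, hxV⟩
    exact isReduced_localizationPreserves (hV.primeIdealOf ⟨x, hxV⟩).asIdeal.primeCompl (A.presheaf.stalk x) inferInstance
  exact isReduced_of_isReduced_stalk A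

/-- Geometric fibres of an étale cover of a family with reduced geometric fibres are reduced. -/
theorem isReduced_pullback_comp {W X S : Scheme.{u}} (π : W ⟶ X) [Etale π] (f : X ⟶ S)
    {T : Scheme.{u}} (σ : T ⟶ S) [AlgebraicGeometry.IsReduced (pullback f σ)] :
    AlgebraicGeometry.IsReduced (pullback (π ≫ f) σ) := by
  let v : pullback (π ≫ f) σ ⟶ pullback f σ :=
    pullback.lift (pullback.fst _ _ ≫ π) (pullback.snd _ _) (by rw [Category.assoc]; exact pullback.condition)
  have hv : IsPullback (pullback.fst (π ≫ f) σ) v π (pullback.fst f σ) := by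
    refine IsPullback.of_bot ?_ (by simp [v]) (IsPullback.of_hasPullback f σ)
    simpa [v] using IsPullback.of_hasPullback (π ≫ f) σ
  haveI : Etale v := MorphismProperty.of_isPullback hv ‹Etale π›
  exact isReduced_of_etale_source v

/-- A finite étale morphism between connected schemes with a single geometric point above some geometric
point is an isomorphism. -/
theorem isIso_of_unique_fibre {Y Z : Scheme.{u}} (q : Y ⟶ Z) [IsFinite q] [Etale q] [ConnectedSpace Z]
    {Ω : Type u} [Field Ω] [IsAlgClosed Ω] (ζ : Spec (CommRingCat.of Ω) ⟶ Z) (y₀ : Spec (CommRingCat.of Ω) ⟶ Y)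
    (h₀ : y₀ ≫ q = ζ) (h₁ : ∀ y, y ≫ q = ζ → y = y₀) : IsIso q := by
  letI := preGaloisCategory Z
  haveI := galoisCategory (X := Z)
  let Yc : FEt.Cat Z := MorphismProperty.Over.mk ⊤ q ⟨inferInstance, inferInstance⟩
  let Tc : FEt.Cat Z := MorphismProperty.Over.mk ⊤ (𝟙 Z) ⟨inferInstance, inferInstance⟩
  let k : Yc ⟶ Tc := MorphismProperty.Over.homMk q (Category.comp_id _)
  have hb : Function.Bijective ((fiberFin ζ).map k) := by
    refine ⟨fun a b _ => Subtype.ext ((h₁ _ a.2).trans (h₁ _ b.2).symm), fun z => ⟨⟨y₀, h₀⟩, Subtype.ext ?_⟩⟩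
    show y₀ ≫ q = z.1
    exact h₀.trans ((Category.comp_id _).symm.trans z.2).symm
  haveI := reflectsIsomorphisms_fiberFin (X := Z) ζ
  haveI : IsIso ((fiberFin ζ).map k) := (ConcreteCategory.isIso_iff_bijective _).mpr hb
  haveI : IsIso k := isIso_of_reflects_iso k (fiberFin ζ)
  exact inferInstanceAs (IsIso ((MorphismProperty.Over.forget FEt.prop ⊤ Z ⋙ Over.forget Z).map k))

/-- A morphism from a connected scheme to a finite étale scheme over an algebraically closed field is
constant. -/
theorem exists_section_of_connected {Ω : Type u} [Field Ω] [IsAlgClosed Ω] {W T : Scheme.{u}}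
    (p : T ⟶ Spec (CommRingCat.of Ω)) [IsFinite p] [Etale p] (w : W ⟶ T) [ConnectedSpace W] :
    ∃ c : Spec (CommRingCat.of Ω) ⟶ T, c ≫ p = 𝟙 _ ∧ w = (w ≫ p) ≫ c := by
  haveI : DiscreteTopology T := by
    have h := p.isDiscrete_preimage_singleton (IsLocalRing.closedPoint Ω)
    rw [show p ⁻¹' {IsLocalRing.closedPoint Ω} = Set.univ from
      Set.eq_univ_of_forall fun z => Subsingleton.elim (α := PrimeSpectrum Ω) _ _] at h
    exact isDiscrete_univ_iff.mp h
  obtain ⟨x⟩ := (inferInstance : Nonempty W)
  let V : T.Opens := ⟨{w x}, isOpen_discrete _⟩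
  haveI : Nonempty (V : Scheme.{u}) := ⟨(⟨w x, rfl⟩ : V)⟩
  haveI : IsClosedImmersion V.ι := .of_isPreimmersion _ (by rw [Scheme.Opens.range_ι]; exact isClosed_discrete _)
  obtain ⟨c, hc⟩ := exists_section (V.ι ≫ p)
  let c' := c ≫ V.ι
  have hc' : c' ≫ p = 𝟙 _ := by simpa [c'] using hc
  haveI : Etale (c' ≫ p) := by rw [hc']; infer_instance
  haveI : Etale c' := Etale.of_comp c' p
  haveI : IsClosedImmersion (c' ≫ p) := by rw [hc']; infer_instance
  haveI : IsClosedImmersion c' := IsClosedImmersion.of_comp c' p
  haveI : IsOpenImmersion c' := IsOpenImmersion.of_flat_of_mono c'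
  have hr : Set.range w ⊆ Set.range c' := by
    rintro _ ⟨z, rfl⟩
    have h1 : w z = w x := by
      have := (isConnected_range w.continuous).isPreconnected.subsingleton
      exact this ⟨z, rfl⟩ ⟨x, rfl⟩
    refine ⟨IsLocalRing.closedPoint Ω, ?_⟩
    rw [h1]
    have h2 : V.ι (c (IsLocalRing.closedPoint Ω)) ∈ Set.range V.ι := ⟨_, rfl⟩
    rw [Scheme.Opens.range_ι] at h2
    exact h2
  refine ⟨c', hc', ?_⟩
  have h3 := IsOpenImmersion.lift_fac c' w hr
  conv_rhs => rw [← h3]
  simp only [Category.assoc, reassoc_of% hc']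
  exact h3.symm

/-- A connected finite étale cover with a section over one geometric fibre comes from the base. -/
theorem essImage_restrict_of_section {X S : Scheme.{u}} (f : X ⟶ S) [IsProper f] [Flat f]
    [LocallyOfFinitePresentation f]
    (hfib : ∀ (Ω : Type u) [Field Ω] [IsAlgClosed Ω] (s : Spec (CommRingCat.of Ω) ⟶ S),
      ConnectedSpace ↥(pullback f s) ∧ AlgebraicGeometry.IsReduced (pullback f s))
    (Y : FEt.Cat X) [ConnectedSpace Y.left] (Ω : Type u) [Field Ω] [IsAlgClosed Ω]
    (s : Spec (CommRingCat.of Ω) ⟶ S) (σ : pullback f s ⟶ Y.left)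
    (hσ : σ ≫ Y.hom = pullback.fst f s) :
    (FEt.restrict f).essImage Y := by
  haveI : IsFinite Y.hom := Y.prop.1
  haveI : Etale Y.hom := Y.prop.2
  let g := Y.hom ≫ f
  haveI : IsProper g := inferInstanceAs (IsProper (Y.hom ≫ f))
  haveI : Flat g := inferInstanceAs (Flat (Y.hom ≫ f))
  haveI : LocallyOfFinitePresentation g := inferInstanceAs (LocallyOfFinitePresentation (Y.hom ≫ f))
  have hred : ∀ (Ω : Type u) [Field Ω] [IsAlgClosed Ω] (σ : Spec (CommRingCat.of Ω) ⟶ S),
      AlgebraicGeometry.IsReduced (pullback g σ) := fun Ω' _ _ σ' => by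
    haveI := (hfib Ω' σ').2
    exact isReduced_pullback_comp Y.hom f σ'
  obtain ⟨hn1, hn2⟩ := isFinite_etale_fromNormalization g hred
  let n := g.fromNormalization
  let t := g.toNormalization
  haveI := geometricallyConnected_toNormalization g hred
  haveI : ConnectedSpace g.normalization := by
    haveI : ConnectedSpace ((𝟭 Scheme.{u}).obj Y.left) := ‹ConnectedSpace Y.left›
    obtain ⟨y⟩ := (inferInstance : Nonempty Y.left)
    haveI : Nonempty g.normalization := ⟨t y⟩
    refine connectedSpace_iff_univ.mpr ?_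
    rw [← t.denseRange.closure_range]
    exact (isConnected_range t.continuous).closure
  haveI : UniversallyClosed (pullback.fst n f) := MorphismProperty.pullback_fst _ _ inferInstance
  haveI : ConnectedSpace ↥(pullback n f) := connectedSpace_of_geomFibres (pullback.fst n f) fun Ω' _ _ e => by
    haveI := (hfib Ω' (e ≫ n)).1
    let j := pullbackSymmetry (pullback.fst n f) e ≪≫ pullbackRightPullbackFstIso n f e ≪≫
      (pullbackSymmetry f (e ≫ n)).symm
    exact j.inv.surjective.connectedSpace j.inv.continuous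
  let Nc : FEt.Cat S := MorphismProperty.Over.mk ⊤ n ⟨hn1, hn2⟩
  let q : Y.left ⟶ pullback n f := pullback.lift t Y.hom (g.toNormalization_fromNormalization)
  let qc : Y ⟶ (FEt.restrict f).obj Nc :=
    MorphismProperty.Over.homMk q (pullback.lift_snd _ _ _)
  haveI : IsFinite q := isFinite_left qc
  haveI : Etale q := etale_left qc
  haveI := (hfib Ω s).1
  obtain ⟨x⟩ := (inferInstance : Nonempty ↥(pullback f s))
  -- the point of `g.normalization` over `s` singled out by the section
  haveI : IsFinite (pullback.snd n s) := MorphismProperty.pullback_snd _ _ hn1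
  let w₁ : pullback f s ⟶ pullback n s := pullback.lift (σ ≫ t) (pullback.snd f s) (by
    rw [Category.assoc, g.toNormalization_fromNormalization]
    show σ ≫ Y.hom ≫ f = _
    rw [← Category.assoc, hσ, pullback.condition])
  obtain ⟨e, he, hfac⟩ : ∃ e : Spec (CommRingCat.of Ω) ⟶ g.normalization,
      e ≫ n = s ∧ σ ≫ t = pullback.snd f s ≫ e := by
    obtain ⟨c, hc, hw⟩ := exists_section_of_connected (pullback.snd n s) w₁
    refine ⟨c ≫ pullback.fst n s, ?_, ?_⟩
    · rw [Category.assoc, pullback.condition, reassoc_of% hc]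
    · rw [← pullback.lift_fst (f := n) (g := s) (σ ≫ t) (pullback.snd f s), show pullback.lift _ _ _ = w₁ from rfl, hw]
      · simp [w₁]
      · rw [Category.assoc, g.toNormalization_fromNormalization]
        show σ ≫ Y.hom ≫ f = _
        rw [← Category.assoc, hσ, pullback.condition]
  let Ye := pullback t e
  haveI : ConnectedSpace ↥Ye :=
    GeometricallyConnected.geometrically_connectedSpace (f := t) e _ _ (IsPullback.of_hasPullback t e)
  let m : pullback f s ⟶ pullback n f := pullback.lift (pullback.snd f s ≫ e) (pullback.fst f s)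
    (by rw [Category.assoc, he, pullback.condition])
  have hm : IsPullback m (pullback.snd f s) (pullback.fst n f) e := by
    refine IsPullback.of_right ?_ (pullback.lift_fst _ _ _) (IsPullback.of_hasPullback n f).flip
    rw [pullback.lift_snd, he]
    exact IsPullback.of_hasPullback f s
  let u : Ye ⟶ pullback f s := pullback.lift (pullback.fst t e ≫ Y.hom) (pullback.snd t e) (by
    rw [← he, ← pullback.condition_assoc, Category.assoc, g.toNormalization_fromNormalization])
  have hu : IsPullback (pullback.fst t e) u q m := by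
    refine IsPullback.of_bot ?_ (pullback.hom_ext ?_ ?_) hm
    · rw [pullback.lift_fst, pullback.lift_snd]
      exact IsPullback.of_hasPullback t e
    · simp [q, u, m, pullback.condition]
    · simp [q, u, m]
  haveI : Etale u := MorphismProperty.of_isPullback hu ‹Etale q›
  haveI : IsFinite u := MorphismProperty.of_isPullback hu ‹IsFinite q›
  let σ' : pullback f s ⟶ Ye := pullback.lift σ (pullback.snd f s) hfac
  have hσ' : σ' ≫ u = 𝟙 _ := pullback.hom_ext (by simp [σ', u, hσ]) (by simp [σ', u])
  haveI : IsIso σ' := by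
    haveI : IsClosedImmersion (σ' ≫ u) := by rw [hσ']; infer_instance
    haveI : IsClosedImmersion σ' := IsClosedImmersion.of_comp σ' u
    haveI : Etale (σ' ≫ u) := by rw [hσ']; infer_instance
    haveI : Etale σ' := Etale.of_comp σ' u
    haveI : IsOpenImmersion σ' := IsOpenImmersion.of_flat_of_mono σ'
    haveI : Epi σ'.base := by
      rw [TopCat.epi_iff_surjective]
      intro z
      have hc : IsClopen (Set.range σ') := ⟨σ'.isClosedEmbedding.isClosed_range, σ'.isOpenEmbedding.isOpen_range⟩
      rw [← Set.mem_range, hc.eq_univ ⟨_, x, rfl⟩]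
      trivial
    exact IsOpenImmersion.isIso σ'
  haveI : IsIso u := IsIso.of_isIso_fac_left hσ'
  -- a geometric point with a single point above it
  obtain ⟨Ω', _, _, w, -⟩ := exists_geometric_point x
  haveI : IsIso q := by
    refine isIso_of_unique_fibre q (w ≫ m) (w ≫ σ) ?_ fun y hy => ?_
    · refine pullback.hom_ext ?_ ?_ <;> simp [q, m, hσ, hfac]
    · let y' : Spec (CommRingCat.of Ω') ⟶ Ye := hu.lift y w hy
      have h1 : y' = w ≫ σ' := by
        rw [← cancel_mono u, Category.assoc, hσ', Category.comp_id]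
        exact hu.lift_snd _ _ _
      have h2 : y' ≫ pullback.fst t e = y := hu.lift_fst _ _ _
      rw [← h2, h1, Category.assoc, pullback.lift_fst]
  haveI : IsIso ((MorphismProperty.Over.forget FEt.prop ⊤ X ⋙ Over.forget X).map qc) := ‹IsIso q›
  haveI : IsIso qc := isIso_of_reflects_iso qc (MorphismProperty.Over.forget FEt.prop ⊤ X ⋙ Over.forget X)
  exact ⟨Nc, ⟨(asIso qc).symm⟩⟩

/-- A nonempty finite étale scheme over a separably closed field has a rational point. -/
theorem exists_section_sepClosed {K : Type u} [Field K] [IsSepClosed K] {P : Scheme.{u}}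
    (q : P ⟶ Spec (CommRingCat.of K)) [IsFinite q] [Etale q] [Nonempty P] :
    ∃ s : Spec (CommRingCat.of K) ⟶ P, s ≫ q = 𝟙 _ := by
  haveI : IsAffine P := isAffine_of_isAffineHom q
  let φ : CommRingCat.of K ⟶ Γ(P, ⊤) := Spec.preimage (P.isoSpec.inv ≫ q)
  letI : Algebra K Γ(P, ⊤) := φ.hom.toAlgebra
  haveI : Module.Finite K Γ(P, ⊤) := by
    have : IsFinite (Spec.map φ) := by rw [Spec.map_preimage]; infer_instance
    exact RingHom.finite_algebraMap.mp ((IsFinite.SpecMap_iff _).mp this)
  haveI : Algebra.Etale K Γ(P, ⊤) := by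
    have h : Etale (Spec.map φ) := by rw [Spec.map_preimage]; infer_instance
    exact RingHom.etale_algebraMap.1 ((HasRingHomProperty.Spec_iff (P := @Etale)).1 h)
  haveI : Nonempty (Spec Γ(P, ⊤)) := Nonempty.map P.isoSpec.hom inferInstance
  haveI : Nontrivial Γ(P, ⊤) := PrimeSpectrum.nonempty_iff_nontrivial.mp ‹_›
  obtain ⟨M, hM⟩ := Ideal.exists_maximal Γ(P, ⊤)
  letI := Ideal.Quotient.field M
  haveI : Algebra.FormallyUnramified K (Γ(P, ⊤) ⧸ M) :=
    Algebra.FormallyUnramified.of_surjective (Ideal.Quotient.mkₐ K M) Ideal.Quotient.mk_surjective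
  haveI : Algebra.IsSeparable K (Γ(P, ⊤) ⧸ M) := Algebra.FormallyUnramified.isSeparable K _
  have hb : Function.Bijective (algebraMap K (Γ(P, ⊤) ⧸ M)) :=
    ⟨(algebraMap K (Γ(P, ⊤) ⧸ M)).injective, IsSepClosed.algebraMap_surjective K _⟩
  let ψ : Γ(P, ⊤) →ₐ[K] K := (AlgEquiv.ofBijective (Algebra.ofId K _) hb).symm.toAlgHom.comp (Ideal.Quotient.mkₐ K M)
  refine ⟨Spec.map (CommRingCat.ofHom ψ.toRingHom) ≫ P.isoSpec.inv, ?_⟩
  rw [Category.assoc, ← Spec.map_preimage (P.isoSpec.inv ≫ q), ← Spec.map_comp, ← Spec.map_id]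
  congr 1
  ext r
  exact ψ.commutes r

/-- A connected finite étale cover of a strictly henselian local scheme is trivial. -/
theorem isIso_of_strictlyHenselian {A : Type u} [CommRing A] [HenselianLocalRing A]
    [IsSepClosed (IsLocalRing.ResidueField A)] {N : Scheme.{u}} (n : N ⟶ Spec (CommRingCat.of A))
    [IsFinite n] [Etale n] [ConnectedSpace N] : IsIso n := by
  let r := Spec.map (CommRingCat.ofHom (IsLocalRing.residue A))
  have hr : r (IsLocalRing.closedPoint _) = IsLocalRing.closedPoint A :=
    IsLocalRing.comap_closedPoint (IsLocalRing.residue A)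
  haveI : Nonempty ↥(pullback n r) := by
    obtain ⟨z⟩ := (inferInstance : Nonempty N)
    obtain ⟨z₀, hz₀⟩ := n.isClosedMap.isClosed_range.stableUnderSpecialization
      (IsLocalRing.specializes_closedPoint (n z)) ⟨z, rfl⟩
    exact ⟨(Scheme.Pullback.exists_preimage_pullback (f := n) (g := r) z₀ (IsLocalRing.closedPoint _)
      (hz₀.trans hr.symm)).choose⟩
  obtain ⟨c, hc⟩ := exists_section_sepClosed (pullback.snd n r)
  obtain ⟨s, hs, -⟩ := HenselLib.SectionsLift.exists_section n (c ≫ pullback.fst n r)
    (by rw [Category.assoc, pullback.condition, reassoc_of% hc])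
  haveI : Etale (s ≫ n) := by rw [hs]; infer_instance
  haveI : Etale s := Etale.of_comp s n
  haveI : IsClosedImmersion (s ≫ n) := by rw [hs]; infer_instance
  haveI : IsClosedImmersion s := IsClosedImmersion.of_comp s n
  haveI : IsOpenImmersion s := IsOpenImmersion.of_flat_of_mono s
  haveI : Epi s.base := by
    rw [TopCat.epi_iff_surjective]
    intro z
    have hc : IsClopen (Set.range s) := ⟨s.isClosedEmbedding.isClosed_range, s.isOpenEmbedding.isOpen_range⟩
    rw [← Set.mem_range, hc.eq_univ ⟨_, IsLocalRing.closedPoint A, rfl⟩]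
    trivial
  haveI : IsIso s := IsOpenImmersion.isIso s
  exact IsIso.of_isIso_fac_left hs

/-- Over a strictly henselian base the restriction to a geometric fibre is fully faithful. -/
theorem restrict_fibre_fullyFaithful {A : Type u} [CommRing A] [HenselianLocalRing A]
    [IsSepClosed (IsLocalRing.ResidueField A)] {X : Scheme.{u}} (f : X ⟶ Spec (CommRingCat.of A))
    [IsProper f] [Flat f] [LocallyOfFinitePresentation f]
    (hfib : ∀ (Ω : Type u) [Field Ω] [IsAlgClosed Ω] (s : Spec (CommRingCat.of Ω) ⟶ Spec (CommRingCat.of A)),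
      ConnectedSpace ↥(pullback f s) ∧ AlgebraicGeometry.IsReduced (pullback f s))
    (Ω : Type u) [Field Ω] [IsAlgClosed Ω] (τ : Spec (CommRingCat.of Ω) ⟶ Spec (CommRingCat.of A)) :
    (FEt.restrict (pullback.fst f τ)).Full ∧ (FEt.restrict (pullback.fst f τ)).Faithful := by
  haveI : ConnectedSpace ↥(Spec (CommRingCat.of A)) := by
    refine connectedSpace_iff_clopen.mpr ⟨⟨IsLocalRing.closedPoint A⟩, fun C hC => ?_⟩
    by_cases h : IsLocalRing.closedPoint A ∈ C
    · refine Or.inr (Set.eq_univ_of_forall fun z => ?_)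
      exact (IsLocalRing.specializes_closedPoint z).mem_open hC.2 h
    · refine Or.inl (Set.eq_empty_of_forall_notMem fun z hz => h ?_)
      exact (IsLocalRing.specializes_closedPoint z).mem_closed hC.1 hz
  haveI : ConnectedSpace X := connectedSpace_of_geomFibres f fun Ω _ _ s => (hfib Ω s).1
  haveI := (hfib Ω τ).1
  letI := preGaloisCategory X
  letI := preGaloisCategory (pullback f τ)
  haveI := galoisCategory (X := X)
  haveI := galoisCategory (X := pullback f τ)
  haveI := (restrict_exact (pullback.fst f τ)).1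
  haveI := (restrict_exact (pullback.fst f τ)).2
  refine (Groth.Agent.S0267.result (FEt.restrict (pullback.fst f τ))).mpr fun W hW => ?_
  haveI := connectedSpace_of_isConnected W
  haveI : ConnectedSpace ((𝟭 Scheme.{u}).obj W.left) := ‹ConnectedSpace W.left›
  haveI : IsFinite W.hom := W.prop.1
  haveI : Etale W.hom := W.prop.2
  let g := W.hom ≫ f
  haveI : IsProper g := inferInstanceAs (IsProper (W.hom ≫ f))
  haveI : Flat g := inferInstanceAs (Flat (W.hom ≫ f))
  haveI : LocallyOfFinitePresentation g := inferInstanceAs (LocallyOfFinitePresentation (W.hom ≫ f))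
  have hred : ∀ (Ω : Type u) [Field Ω] [IsAlgClosed Ω] (σ : Spec (CommRingCat.of Ω) ⟶ Spec (CommRingCat.of A)),
      AlgebraicGeometry.IsReduced (pullback g σ) := fun Ω' _ _ σ' => by
    haveI := (hfib Ω' σ').2
    exact isReduced_pullback_comp W.hom f σ'
  obtain ⟨_, _⟩ := isFinite_etale_fromNormalization g hred
  haveI : ConnectedSpace g.normalization := by
    obtain ⟨y⟩ := (inferInstance : Nonempty W.left)
    haveI : Nonempty g.normalization := ⟨g.toNormalization y⟩
    refine connectedSpace_iff_univ.mpr ?_
    rw [← g.toNormalization.denseRange.closure_range]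
    exact (isConnected_range g.toNormalization.continuous).closure
  haveI := isIso_of_strictlyHenselian g.fromNormalization
  haveI : GeometricallyConnected g := by
    rw [← g.toNormalization_fromNormalization]
    exact MorphismProperty.RespectsIso.postcomp (P := @GeometricallyConnected) _ _
      (geometricallyConnected_toNormalization g hred)
  haveI : ConnectedSpace ((FEt.restrict (pullback.fst f τ)).obj W).left :=
    GeometricallyConnected.geometrically_connectedSpace (f := g) τ _ _
      ((IsPullback.of_hasPullback W.hom (pullback.fst f τ)).paste_vert (IsPullback.of_hasPullback f τ))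
  exact isConnected_of_connectedSpace _

end Groth.Agent.FEtStein
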