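import Groth.Agent.FEtStein.Local
import Groth.Agent.FEtStein.Algebra
import Groth.Agent.Coherent.Stein
import Mathlib.AlgebraicGeometry.Morphisms.Etale
import Mathlib.RingTheory.RingHom.Unramified

/-!
# Stein factorisation of a proper flat morphism with geometrically reduced fibres over a Noetherian base
-/

set_option autoImplicit false
set_option linter.style.haveILetI false
set_option backward.isDefEq.respectTransparency.types false
set_option backward.isDefEq.respectTransparency false
universe u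

open CategoryTheory CategoryTheory.Limits AlgebraicGeometry Opposite TopologicalSpace
open Groth.Agent.Coherent Groth.Agent.Coherent.CohBC Groth.Agent.PicLib
open scoped TensorProduct

namespace Groth.Agent.FEtStein

/-- The map from a local ring to the residue field of the closed point of its spectrum is surjective. -/
theorem surjective_germ_residue (A : Type u) [CommRing A] [IsLocalRing A] :
    Function.Surjective ((Scheme.ΓSpecIso (CommRingCat.of A)).inv ≫
      (Spec (CommRingCat.of A)).presheaf.germ ⊤ (IsLocalRing.closedPoint A) trivial ≫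
      (Spec (CommRingCat.of A)).residue (IsLocalRing.closedPoint A)) := by
  have e : (Scheme.ΓSpecIso (CommRingCat.of A)).inv ≫
      (Spec (CommRingCat.of A)).presheaf.germ ⊤ (IsLocalRing.closedPoint A) trivial =
      (stalkClosedPointIso (CommRingCat.of A)).inv := by
    rw [← ΓSpecIso_hom_stalkClosedPointIso_inv, Iso.inv_hom_id_assoc]
  rw [← Category.assoc, e]
  exact ((Spec (CommRingCat.of A)).residue_surjective _).comp
    (ConcreteCategory.bijective_of_isIso (stalkClosedPointIso (CommRingCat.of A)).inv).2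

/-- The fibre of the direct image of the structure sheaf is unramified when the functions on the fibre
are étale. -/
theorem formallyUnramified_sections {X Y : Scheme.{u}} (f : X ⟶ Y) [IsProper f] [Flat f]
    [IsLocallyNoetherian Y] (y : Y) (het : Algebra.Etale (Y.residueField y) Γ(f.fiber y, ⊤))
    {W : Y.Opens} (hW : IsAffineOpen W) (hy : y ∈ W) :
    letI := (f.app W).hom.toAlgebra
    Algebra.FormallyUnramified (hW.primeIdealOf ⟨y, hy⟩).asIdeal.ResidueField
      ((hW.primeIdealOf ⟨y, hy⟩).asIdeal.ResidueField ⊗[Γ(Y, W)] Γ(X, f ⁻¹ᵁ W)) := by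
  letI := (f.app W).hom.toAlgebra
  let p := (hW.primeIdealOf ⟨y, hy⟩).asIdeal
  haveI : IsNoetherianRing Γ(Y, W) := IsLocallyNoetherian.component_noetherian ⟨W, hW⟩
  let A := Localization.AtPrime p
  let j : Spec (CommRingCat.of A) ⟶ Y := Spec.map (CommRingCat.ofHom (algebraMap Γ(Y, W) A)) ≫ hW.fromSpec
  haveI : IsPreimmersion (Spec.map (CommRingCat.ofHom (algebraMap Γ(Y, W) A))) :=
    IsPreimmersion.of_isLocalization p.primeCompl
  haveI : IsPreimmersion j := IsPreimmersion.comp _ _
  let c : ↥(Spec (CommRingCat.of A)) := IsLocalRing.closedPoint A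
  have hc : j c = y := by
    show hW.fromSpec (Spec.map (CommRingCat.ofHom (algebraMap Γ(Y, W) A)) c) = y
    have e : Spec.map (CommRingCat.ofHom (algebraMap Γ(Y, W) A)) c = hW.primeIdealOf ⟨y, hy⟩ :=
      PrimeSpectrum.ext (IsLocalization.AtPrime.under_maximalIdeal A p)
    rw [e, IsAffineOpen.fromSpec_primeIdealOf]
  haveI := CohBC.isIso_residueFieldMap_of_isPreimmersion j c
  let X' : Scheme.{u} := pullback f j
  let g : X' ⟶ X := pullback.fst f j
  letI : X'.Over (Spec (CommRingCat.of A)) := ⟨pullback.snd f j⟩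
  let f' := X' ↘ Spec (CommRingCat.of A)
  have hsq : IsPullback g f' f j := IsPullback.of_hasPullback f j
  haveI : IsProper f' := MorphismProperty.IsStableUnderBaseChange.of_isPullback (P := @IsProper) hsq inferInstance
  haveI : Flat f' := MorphismProperty.IsStableUnderBaseChange.of_isPullback (P := @Flat) hsq inferInstance
  have het' : Algebra.Etale ((Spec (CommRingCat.of A)).residueField c) Γ(f'.fiber c, ⊤) :=
    etale_fibre_transfer hsq c (by rw [hc]; exact het)
  obtain ⟨hsurj, hker⟩ := closedFibre_quotient A X' het'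
  have hjW : j ⁻¹ᵁ W = ⊤ := by
    rw [Scheme.Hom.comp_preimage, hW.fromSpec_preimage_self]
    rfl
  have hgW : g ⁻¹ᵁ (f ⁻¹ᵁ W) = ⊤ := by
    rw [← Scheme.Hom.comp_preimage, hsq.w, Scheme.Hom.comp_preimage, hjW]
    rfl
  haveI : Flat j := by
    haveI : Flat (Spec.map (CommRingCat.ofHom (algebraMap Γ(Y, W) A))) :=
      (HasRingHomProperty.Spec_iff (P := @Flat)).mpr
        (show (algebraMap Γ(Y, W) A).Flat from RingHom.flat_algebraMap_iff.mpr inferInstance)
    infer_instance
  have hi := isIso_pushoutSection_of_isQuasiSeparated_of_flat_right hsq (US := W) (UT := ⊤)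
    (UX := f ⁻¹ᵁ W) (UY := ⊤)
    (by rw [hjW]) le_rfl (by simp [hgW]) hW (isAffineOpen_top _)
    (f.isCompact_preimage hW.isCompact) (f.isQuasiSeparated_preimage hW.isQuasiSeparated)
  have hp := (isIso_pushoutSection_iff ..).1 hi
  let γ := Scheme.ΓSpecIso (CommRingCat.of A)
  have hjA : j.appLE W ⊤ (by rw [hjW]) ≫ γ.hom = CommRingCat.ofHom (algebraMap Γ(Y, W) A) := by
    have h1 := Scheme.Hom.appLE_comp_appLE (Spec.map (CommRingCat.ofHom (algebraMap Γ(Y, W) A))) hW.fromSpec
      W ⊤ ⊤ (hW.fromSpec_preimage_self.ge) le_rfl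
    have h2 : hW.fromSpec.appLE W ⊤ hW.fromSpec_preimage_self.ge = (Scheme.ΓSpecIso Γ(Y, W)).inv := by
      simp only [Scheme.Hom.appLE, IsAffineOpen.fromSpec_app_self, Category.assoc, ← Functor.map_comp]
      exact (congrArg ((Scheme.ΓSpecIso Γ(Y, W)).inv ≫ ·) ((Spec Γ(Y, W)).presheaf.map_id (op ⊤))).trans
        (Category.comp_id _)
    have h3 : (Spec.map (CommRingCat.ofHom (algebraMap Γ(Y, W) A))).appLE ⊤ ⊤ le_rfl =
        (Spec.map (CommRingCat.ofHom (algebraMap Γ(Y, W) A))).appTop := Scheme.Hom.appLE_eq_app _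
    rw [← h1, h2, h3]
    simp only [γ, Category.assoc, Scheme.ΓSpecIso_naturality]
    exact Iso.inv_hom_id_assoc (Scheme.ΓSpecIso Γ(Y, W)) _
  let gX : Γ(X, f ⁻¹ᵁ W) ⟶ Γ(X', ⊤) := g.appLE (f ⁻¹ᵁ W) ⊤ hgW.ge
  let sX : CommRingCat.of A ⟶ Γ(X', ⊤) := γ.inv ≫ f'.appTop
  have hp' : IsPushout (f.app W) (CommRingCat.ofHom (algebraMap Γ(Y, W) A)) gX sX := by
    refine hp.of_iso (Iso.refl _) (Iso.refl _) γ (Iso.refl _) ?_ ?_ ?_ ?_
    all_goals simp [gX, sX, hjA, Scheme.Hom.appTop, Scheme.Hom.app_eq_appLE]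
  let T := p.ResidueField ⊗[Γ(Y, W)] Γ(X, f ⁻¹ᵁ W)
  let iR : Γ(X, f ⁻¹ᵁ W) ⟶ CommRingCat.of T :=
    CommRingCat.ofHom (Algebra.TensorProduct.includeRight : _ →ₐ[Γ(Y, W)] T).toRingHom
  let res : A →+* p.ResidueField := algebraMap A p.ResidueField
  let iL : p.ResidueField →+* T := Algebra.TensorProduct.includeLeftRingHom
  have hw : f.app W ≫ iR = CommRingCat.ofHom (algebraMap Γ(Y, W) A) ≫ CommRingCat.ofHom (iL.comp res) := by
    ext a
    show (1 : p.ResidueField) ⊗ₜ[Γ(Y, W)] (algebraMap Γ(Y, W) Γ(X, f ⁻¹ᵁ W) a) =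
      (algebraMap A p.ResidueField (algebraMap Γ(Y, W) A a)) ⊗ₜ[Γ(Y, W)] 1
    rw [← IsScalarTower.algebraMap_apply, Algebra.algebraMap_eq_smul_one a,
      Algebra.algebraMap_eq_smul_one a, TensorProduct.tmul_smul, TensorProduct.smul_tmul']
  let α := hp'.desc iR (CommRingCat.ofHom (iL.comp res)) hw
  have hα1 : ∀ c, α (gX c) = iR c := fun c => ConcreteCategory.congr_hom (hp'.inl_desc _ _ hw) c
  have hα2 : ∀ a, α (sX a) = iL (res a) := fun a => ConcreteCategory.congr_hom (hp'.inr_desc _ _ hw) a
  have hαs : Function.Surjective α := by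
    intro z
    induction z using TensorProduct.induction_on with
    | zero => exact ⟨0, map_zero α.hom⟩
    | tmul k c =>
      obtain ⟨a, rfl⟩ := IsLocalRing.residue_surjective (R := A) k
      refine ⟨sX a * gX c, ?_⟩
      rw [map_mul, hα1, hα2]
      show (res a ⊗ₜ[Γ(Y, W)] (1 : Γ(X, f ⁻¹ᵁ W))) * ((1 : p.ResidueField) ⊗ₜ c) = _
      rw [Algebra.TensorProduct.tmul_mul_tmul, mul_one, one_mul]
      rfl
    | add x y hx hy =>
      obtain ⟨x, rfl⟩ := hx
      obtain ⟨y, rfl⟩ := hy
      exact ⟨x + y, map_add α.hom x y⟩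
  let π := (f'.fiberι c).appTop
  have hπ : RingHom.ker π.hom ≤ RingHom.ker α.hom := fun b hb => by
    refine Ideal.map_le_iff_le_comap.2 (fun a ha => ?_) (hker b hb)
    show α (toΓ A (⊤ : X'.Opens) a) = 0
    have e : toΓ A (⊤ : X'.Opens) a = sX a := ConcreteCategory.congr_hom (X'.presheaf.map_id _) _
    rw [e, hα2, show res a = 0 from (IsLocalRing.residue_eq_zero_iff a).2 ha, map_zero]
  let β := π.hom.liftOfSurjective hsurj ⟨α.hom, hπ⟩
  have hβ : ∀ b, β (π b) = α b := fun b => RingHom.liftOfRightInverse_comp_apply _ _ _ _ b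
  have hβs : Function.Surjective β := fun z => by
    obtain ⟨b, rfl⟩ := hαs z
    exact ⟨π b, hβ b⟩
  let φ := γ.inv ≫ (Spec (CommRingCat.of A)).presheaf.germ ⊤ c trivial ≫ (Spec (CommRingCat.of A)).residue c
  let ψ := (Scheme.ΓSpecIso ((Spec (CommRingCat.of A)).residueField c)).inv ≫ (f'.fiberToSpecResidueField c).appTop
  have hψ : ψ.hom.FormallyUnramified := by
    haveI := het'
    exact RingHom.formallyUnramified_algebraMap.2 inferInstance
  have key : sX ≫ π = φ ≫ ψ := by
    have h1 : (f'.fiberι c ≫ f').appTop =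
        (f'.fiberToSpecResidueField c ≫ (Spec (CommRingCat.of A)).fromSpecResidueField c).appTop :=
      congrArg Scheme.Hom.appTop pullback.condition
    rw [Scheme.Hom.comp_appTop, Scheme.Hom.comp_appTop] at h1
    simp only [sX, π, φ, ψ, Category.assoc]
    rw [h1, Scheme.fromSpecResidueField, Scheme.Hom.comp_appTop, Scheme.fromSpecStalk_appTop]
    simp [Scheme.ΓSpecIso_inv_naturality_assoc, Scheme.Hom.appTop]
  have hfin : iL.comp res = β.comp (ψ.hom.comp φ.hom) := RingHom.ext fun a => by
    show iL (res a) = β (ψ (φ a))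
    rw [← hα2, ← hβ]
    exact congrArg β (ConcreteCategory.congr_hom key a)
  have hall : (iL.comp res).FormallyUnramified := by
    rw [hfin]
    exact ((RingHom.FormallyUnramified.of_surjective (surjective_germ_residue A)).comp hψ).comp
      (RingHom.FormallyUnramified.of_surjective hβs)
  exact RingHom.formallyUnramified_algebraMap.1 hall.of_comp

/-- Over a locally Noetherian base, the finite part of the Stein factorisation is étale near a point whose
fibre has étale functions. -/
theorem exists_etale_nhd {X Y : Scheme.{u}} (f : X ⟶ Y) [IsProper f] [Flat f] [IsLocallyNoetherian Y] (y : Y)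
    (het : Algebra.Etale (Y.residueField y) Γ(f.fiber y, ⊤)) :
    ∃ U : Y.Opens, y ∈ U ∧ Etale (f.fromNormalization ∣_ U) := by
  obtain ⟨U₀, m, hy₀, ⟨e₀⟩, -⟩ := exists_free_push_of_etale f y het
  obtain ⟨W, hW, hy, hWU⟩ := Opens.isBasis_iff_nbhd.mp Y.isBasis_affineOpens hy₀
  replace hW : IsAffineOpen W := hW
  obtain ⟨b⟩ := Props12.exists_basis_sections e₀ hWU
  letI := (f.app W).hom.toAlgebra
  let C := Γ(X, f ⁻¹ᵁ W)
  let lin : Γ((Coh.push f).obj (Coh.structureModule X), W) ≃ₗ[Γ(Y, W)] C :=
    { toFun := fun x => (x : Γ(X, f ⁻¹ᵁ W))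
      invFun := fun x => x
      map_add' := fun _ _ => rfl
      map_smul' := fun _ _ => rfl
      left_inv := fun _ => rfl
      right_inv := fun _ => rfl }
  haveI : Module.Free Γ(Y, W) C := Module.Free.of_basis (b.map lin)
  haveI : Module.Finite Γ(Y, W) C := Module.Finite.of_basis (b.map lin)
  haveI : IsNoetherianRing Γ(Y, W) := IsLocallyNoetherian.component_noetherian ⟨W, hW⟩
  obtain ⟨a, ha, hae⟩ := exists_etale_away Γ(Y, W) C (hW.primeIdealOf ⟨y, hy⟩).asIdeal
    (formallyUnramified_sections f y het hW hy)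
  refine ⟨Y.basicOpen a, ?_, ?_⟩
  · show ((⟨y, hy⟩ : W) : Y) ∈ Y.basicOpen a
    rw [← hW.fromSpec_primeIdealOf ⟨y, hy⟩]
    show hW.primeIdealOf ⟨y, hy⟩ ∈ hW.fromSpec ⁻¹ᵁ Y.basicOpen a
    rw [hW.fromSpec_preimage_basicOpen]
    exact ha
  let V := f.fromNormalization ⁻¹ᵁ W
  have hV : IsAffineOpen V := hW.preimage _
  let φ := f.fromNormalization.app W
  let D := f.normalization.basicOpen (φ a)
  have hD : f.fromNormalization ⁻¹ᵁ Y.basicOpen a = D := Scheme.preimage_basicOpen _ _
  haveI := hV.isLocalization_basicOpen (φ a)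
  let n := (f.normalizationObjIso hW).commRingCatIsoToRingEquiv
  let ι' : integralClosure Γ(Y, W) C ≃+* C :=
    RingEquiv.ofBijective (integralClosure Γ(Y, W) C).val.toRingHom
      ⟨Subtype.val_injective, fun x => ⟨⟨x, isIntegral_app_of_isProper f hW x⟩, rfl⟩⟩
  let e : Γ(f.normalization, V) ≃+* C := n.trans ι'
  have he : ∀ r, e (φ r) = algebraMap Γ(Y, W) C r := fun r => by
    have h1 : φ r = n.symm (algebraMap Γ(Y, W) (integralClosure Γ(Y, W) C) r) :=
      ConcreteCategory.congr_hom (f.fromNormalization_app hW) r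
    show ι' (n (φ r)) = _
    rw [h1, n.apply_symm_apply]
    rfl
  have H : Submonoid.map e.toMonoidHom (Submonoid.powers (φ a)) =
      Submonoid.powers (algebraMap Γ(Y, W) C a) := by
    rw [Submonoid.map_powers]
    exact congrArg Submonoid.powers (he a)
  let L := IsLocalization.ringEquivOfRingEquiv Γ(f.normalization, D)
    (Localization.Away (algebraMap Γ(Y, W) C a)) e H
  have hDV : D ≤ V := f.normalization.basicOpen_le _
  have key : ∀ r, L (f.fromNormalization.appLE W D hDV r) =
      algebraMap Γ(Y, W) (Localization.Away (algebraMap Γ(Y, W) C a)) r := fun r => by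
    have h1 : f.fromNormalization.appLE W D hDV r = algebraMap Γ(f.normalization, V) Γ(f.normalization, D) (φ r) := rfl
    rw [h1, IsLocalization.ringEquivOfRingEquiv_eq, he, ← IsScalarTower.algebraMap_apply]
  have hring : (f.fromNormalization.appLE W D hDV).hom.Etale := by
    have h2 : (f.fromNormalization.appLE W D hDV).hom = L.symm.toRingHom.comp
        (algebraMap Γ(Y, W) (Localization.Away (algebraMap Γ(Y, W) C a))) :=
      RingHom.ext fun r => L.eq_symm_apply.2 (key r)
    rw [h2]
    exact RingHom.Etale.stableUnderComposition _ _ (RingHom.etale_algebraMap.2 hae)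
      (.of_bijective L.symm.bijective)
  have hDa : IsAffineOpen D := hV.basicOpen (φ a)
  haveI : Etale (D.ι ≫ f.fromNormalization) := by
    haveI : Etale (Spec.map (f.fromNormalization.appLE W D hDV)) :=
      (HasRingHomProperty.Spec_iff (P := @Etale)).2 hring
    have h : D.ι ≫ f.fromNormalization =
        hDa.isoSpec.hom ≫ Spec.map (f.fromNormalization.appLE W D hDV) ≫ hW.fromSpec := by
      rw [IsAffineOpen.SpecMap_appLE_fromSpec f.fromNormalization hW hDa hDV,
        ← IsAffineOpen.isoSpec_inv_ι hDa, ← Category.assoc, ← Category.assoc, Iso.hom_inv_id,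
        Category.id_comp]
    rw [h]
    infer_instance
  haveI : Etale ((f.fromNormalization ⁻¹ᵁ Y.basicOpen a).ι ≫ f.fromNormalization) := by
    rw [hD]
    infer_instance
  haveI : Etale ((f.fromNormalization ∣_ Y.basicOpen a) ≫ (Y.basicOpen a).ι) := by
    rw [morphismRestrict_ι]
    infer_instance
  exact MorphismProperty.of_postcomp (W := @Etale) (W' := @Etale) _ (Y.basicOpen a).ι inferInstance ‹_›

end Groth.Agent.FEtStein
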